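import Mathlib

/-!
# S5210, q = 2: automorphism groups of a regular module of a four-group (helper834)

`Reg a b e`: `V` is elementary abelian of order 16, free over the four-group `{1, a, b, ab}` with generator `e`.
Elements of `V` are coded by `W = Bool⁴`, automorphisms by `M4`.
-/

set_option autoImplicit false

namespace Cfsg.Agent.H834.P4

universe u

/-- codes -/
abbrev W := Bool × Bool × Bool × Bool

/-- sum of codes -/
def wadd (x y : W) : W := (xor x.1 y.1, xor x.2.1 y.2.1, xor x.2.2.1 y.2.2.1, xor x.2.2.2 y.2.2.2)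

/-- multiple of a code -/
def wc (t : Bool) (m : W) : W := if t then m else (false, false, false, false)

/-- matrices -/
abbrev M4 := W × W × W × W

/-- application -/
def app (M : M4) (x : W) : W :=
  wadd (wadd (wc x.1 M.1) (wc x.2.1 M.2.1)) (wadd (wc x.2.2.1 M.2.2.1) (wc x.2.2.2 M.2.2.2))

/-- product -/
def mul4 (M N : M4) : M4 := (app M N.1, app M N.2.1, app M N.2.2.1, app M N.2.2.2)

/-- unit vectors -/
def u0 : W := (true, false, false, false)
/-- unit vectors -/
def u1 : W := (false, true, false, false)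
/-- unit vectors -/
def u2 : W := (false, false, true, false)
/-- unit vectors -/
def u3 : W := (false, false, false, true)

/-- the identity -/
def I4 : M4 := (u0, u1, u2, u3)
/-- `a` -/
def A4 : M4 := (u1, u0, u3, u2)
/-- `b` -/
def B4 : M4 := (u2, u3, u0, u1)

/-- the matrix of `y` (commutes with `a`, inverted by `b`) with `y e = x` -/
def YA (x : W) : M4 := (x, app A4 x, app B4 (wadd u0 x), app A4 (app B4 (wadd u0 x)))
/-- the matrix of `y` (commutes with `b`, inverted by `a`) with `y e = x` -/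
def YB (x : W) : M4 := (x, app A4 (wadd u0 x), app B4 x, app A4 (app B4 (wadd u0 x)))
/-- the matrix of `y` (commutes with `ab`, inverted by `a`, `b`) with `y e = x` -/
def YC (x : W) : M4 := (x, app A4 (wadd u0 x), app B4 (wadd u0 x), app A4 (app B4 x))

/-- the word `a y z` -/
def wz (M N : M4) : M4 := mul4 A4 (mul4 M N)

/-- all codes -/
def Ws : List W :=
  [false, true].flatMap fun i => [false, true].flatMap fun j => [false, true].flatMap fun k =>
    [false, true].map fun l => (i, j, k, l)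

theorem mem_Ws (x : W) : x ∈ Ws := by
  obtain ⟨i, j, k, l⟩ := x
  cases i <;> cases j <;> cases k <;> cases l <;> decide

/-- the check for two -/
def tAB (x y : W) : Bool :=
  !(decide (app (YA x) x = wadd u0 x)) || !(decide (app (YB y) y = wadd u0 y)) ||
    decide (mul4 (YA x) (YB y) = mul4 (YB y) (YA x)) ||
    (decide (mul4 (mul4 (wz (YA x) (YB y)) (wz (YA x) (YB y))) (mul4 (wz (YA x) (YB y)) (wz (YA x) (YB y))) = I4) &&
      !(decide (mul4 (wz (YA x) (YB y)) (wz (YA x) (YB y)) = I4)))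

/-- the check for three -/
def tABC (x y z : W) : Bool :=
  !(decide (app (YA x) x = wadd u0 x)) || !(decide (app (YB y) y = wadd u0 y)) ||
    !(decide (app (YC z) z = wadd u0 z)) ||
    !(decide (mul4 (YA x) (YB y) = mul4 (YB y) (YA x))) || !(decide (mul4 (YA x) (YC z) = mul4 (YC z) (YA x))) ||
    !(decide (mul4 (YB y) (YC z) = mul4 (YC z) (YB y)))

theorem all_tAB : (Ws.all fun x => Ws.all fun y => tAB x y) = true := by decide +kernel

theorem all_tABC : (Ws.all fun x => Ws.all fun y => Ws.all fun z => tABC x y z) = true := by decide +kernel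

theorem chkAB (x y : W) (hx : app (YA x) x = wadd u0 x) (hy : app (YB y) y = wadd u0 y) :
    mul4 (YA x) (YB y) = mul4 (YB y) (YA x) ∨
    (mul4 (mul4 (wz (YA x) (YB y)) (wz (YA x) (YB y))) (mul4 (wz (YA x) (YB y)) (wz (YA x) (YB y))) = I4 ∧
      mul4 (wz (YA x) (YB y)) (wz (YA x) (YB y)) ≠ I4) := by
  have h := (List.all_eq_true.1 ((List.all_eq_true.1 all_tAB) x (mem_Ws x))) y (mem_Ws y)
  simpa [tAB, hx, hy] using h

theorem chkABC (x y z : W) (hx : app (YA x) x = wadd u0 x) (hy : app (YB y) y = wadd u0 y)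
    (hz : app (YC z) z = wadd u0 z) (h1 : mul4 (YA x) (YB y) = mul4 (YB y) (YA x))
    (h2 : mul4 (YA x) (YC z) = mul4 (YC z) (YA x)) (h3 : mul4 (YB y) (YC z) = mul4 (YC z) (YB y)) : False := by
  have h := (List.all_eq_true.1 ((List.all_eq_true.1 ((List.all_eq_true.1 all_tABC) x (mem_Ws x))) y (mem_Ws y)))
    z (mem_Ws z)
  simp [tABC, hx, hy, hz, h1, h2, h3] at h

variable {V : Type u} [Group V]

/-- `v ^ t` -/
def pw (v : V) (t : Bool) : V := if t then v else 1

/-- the element with a given code -/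
def cod (a b : MulAut V) (e : V) (x : W) : V :=
  pw e x.1 * pw (a e) x.2.1 * (pw (b e) x.2.2.1 * pw (a (b e)) x.2.2.2)

/-- `V` is elementary abelian of order 16 and free over the four-group `{1, a, b, ab}`, generated by `e` -/
structure Reg (a b : MulAut V) (e : V) : Prop where
  comm : ∀ x y : V, x * y = y * x
  sq : ∀ x : V, x * x = 1
  aa : a * a = 1
  bb : b * b = 1
  ab : a * b = b * a
  surj : ∀ v : V, ∃ x, cod a b e x = v
  inj : ∀ x y, cod a b e x = cod a b e y → x = y

section

variable {a b : MulAut V} {e : V}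

theorem Reg.pw_xor (h : Reg a b e) (v : V) (s t : Bool) : pw v (xor s t) = pw v s * pw v t := by
  cases s <;> cases t <;> simp [pw, h.sq]

theorem Reg.cod_add (h : Reg a b e) (x y : W) : cod a b e (wadd x y) = cod a b e x * cod a b e y := by
  let _ : CommGroup V := { ‹Group V› with mul_comm := h.comm }
  have key : ∀ p q r s p' q' r' s' : V, p * p' * (q * q') * (r * r' * (s * s')) =
      p * q * (r * s) * (p' * q' * (r' * s')) := by
    intro p q r s p' q' r' s'
    rw [mul_mul_mul_comm p p' q q', mul_mul_mul_comm r r' s s', mul_mul_mul_comm (p * q) (p' * q')]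
  unfold cod wadd
  simp only [h.pw_xor]
  exact key _ _ _ _ _ _ _ _

theorem cod_wc (t : Bool) (m : W) : cod a b e (wc t m) = pw (cod a b e m) t := by
  cases t <;> simp [wc, pw, cod]

theorem map_pw (y : MulAut V) (v : V) (t : Bool) : y (pw v t) = pw (y v) t := by
  cases t <;> simp [pw]

/-- `y` has the matrix `M` -/
def Rep (a b : MulAut V) (e : V) (y : MulAut V) (M : M4) : Prop :=
  y e = cod a b e M.1 ∧ y (a e) = cod a b e M.2.1 ∧ y (b e) = cod a b e M.2.2.1 ∧ y (a (b e)) = cod a b e M.2.2.2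

theorem Reg.rep_app (h : Reg a b e) {y : MulAut V} {M : M4} (hM : Rep a b e y M) (x : W) :
    y (cod a b e x) = cod a b e (app M x) := by
  obtain ⟨h0, h1, h2, h3⟩ := hM
  unfold app
  rw [h.cod_add, h.cod_add, h.cod_add, cod_wc, cod_wc, cod_wc, cod_wc, ← h0, ← h1, ← h2, ← h3]
  rw [cod, map_mul, map_mul, map_mul, map_pw, map_pw, map_pw, map_pw]

theorem Reg.rep_mul (h : Reg a b e) {y z : MulAut V} {M N : M4} (hM : Rep a b e y M) (hN : Rep a b e z N) :
    Rep a b e (y * z) (mul4 M N) := by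
  refine ⟨?_, ?_, ?_, ?_⟩
  · rw [MulAut.mul_apply, hN.1, h.rep_app hM]; rfl
  · rw [MulAut.mul_apply, hN.2.1, h.rep_app hM]; rfl
  · rw [MulAut.mul_apply, hN.2.2.1, h.rep_app hM]; rfl
  · rw [MulAut.mul_apply, hN.2.2.2, h.rep_app hM]; rfl

theorem Reg.rep_ext (h : Reg a b e) {y z : MulAut V} {M : M4} (hM : Rep a b e y M) (hN : Rep a b e z M) : y = z := by
  ext v
  obtain ⟨x, rfl⟩ := h.surj v
  rw [h.rep_app hM, h.rep_app hN]

theorem Reg.rep_unique (h : Reg a b e) {y : MulAut V} {M N : M4} (hM : Rep a b e y M) (hN : Rep a b e y N) :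
    M = N := by
  obtain ⟨m0, m1, m2, m3⟩ := M
  obtain ⟨n0, n1, n2, n3⟩ := N
  have e0 := h.inj _ _ (hM.1.symm.trans hN.1)
  have e1 := h.inj _ _ (hM.2.1.symm.trans hN.2.1)
  have e2 := h.inj _ _ (hM.2.2.1.symm.trans hN.2.2.1)
  have e3 := h.inj _ _ (hM.2.2.2.symm.trans hN.2.2.2)
  simp only at e0 e1 e2 e3
  rw [e0, e1, e2, e3]

theorem cod_u0 : cod a b e u0 = e := by simp [cod, u0, pw]
theorem cod_u1 : cod a b e u1 = a e := by simp [cod, u1, pw]
theorem cod_u2 : cod a b e u2 = b e := by simp [cod, u2, pw]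
theorem cod_u3 : cod a b e u3 = a (b e) := by simp [cod, u3, pw]

theorem rep_one : Rep a b e 1 I4 := by
  refine ⟨?_, ?_, ?_, ?_⟩
  · rw [MulAut.one_apply]; exact cod_u0.symm
  · rw [MulAut.one_apply]; exact cod_u1.symm
  · rw [MulAut.one_apply]; exact cod_u2.symm
  · rw [MulAut.one_apply]; exact cod_u3.symm

theorem Reg.aa' (h : Reg a b e) (v : V) : a (a v) = v := by
  rw [← MulAut.mul_apply, h.aa, MulAut.one_apply]

theorem Reg.bb' (h : Reg a b e) (v : V) : b (b v) = v := by
  rw [← MulAut.mul_apply, h.bb, MulAut.one_apply]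

theorem Reg.ab' (h : Reg a b e) (v : V) : a (b v) = b (a v) := by
  rw [← MulAut.mul_apply, h.ab, MulAut.mul_apply]

theorem Reg.rep_a (h : Reg a b e) : Rep a b e a A4 := by
  refine ⟨?_, ?_, ?_, ?_⟩
  · exact cod_u1.symm
  · rw [h.aa']; exact cod_u0.symm
  · exact cod_u3.symm
  · rw [h.aa']; exact cod_u2.symm

theorem Reg.rep_b (h : Reg a b e) : Rep a b e b B4 := by
  refine ⟨?_, ?_, ?_, ?_⟩
  · exact cod_u2.symm
  · rw [← h.ab']; exact cod_u3.symm
  · rw [h.bb']; exact cod_u0.symm
  · rw [h.ab', h.bb']; exact cod_u1.symm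

end

end Cfsg.Agent.H834.P4
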