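import Cfsg.Agent.H834.P4.RegG

/-!
# S5210, q = 2: the structure of `G` (helper834)
-/

set_option autoImplicit false

open scoped Pointwise

namespace Cfsg.Agent.H834.P4

universe u

variable {V : Type u} [Group V] {a b : MulAut V} {e : V} {G : Subgroup (MulAut V)}

/-- the elements fixed by `a` and `b` -/
theorem Reg.uniq (h : Reg a b e) {v : V} (hv : v ≠ 1) (h1 : a v = v) (h2 : b v = v) :
    v = f1 a e * b (f1 a e) := by
  rcases h.fix h1 with h3 | h3 | h3 | h3
  · exact absurd h3 hv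
  · rw [h3] at h2; exact absurd h2 h.bf_ne
  · rw [h3, h.bb'] at h2; exact absurd h2.symm h.bf_ne
  · exact h3

theorem Reg.z_ne (h : Reg a b e) : f1 a e * b (f1 a e) ≠ 1 := by
  intro h1
  rw [← inv_eq_iff_mul_eq_one, h.inv_eq] at h1
  exact h.bf_ne h1.symm

theorem GHyp.fixz (h : GHyp a b e G) {g : MulAut V} (hn : ∀ x ∈ UU h.reg, g * x * g⁻¹ ∈ UU h.reg) :
    g (f1 a e * b (f1 a e)) = f1 a e * b (f1 a e) := by
  have hr := h.reg
  have := hr.finite
  have hmap : (UU hr).map (MulAut.conj g).toMonoidHom = UU hr := by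
    apply Subgroup.eq_of_le_of_card_ge
    · rintro _ ⟨x, hx, rfl⟩
      exact hn x hx
    · exact (Subgroup.card_map_of_injective (MulAut.conj g).injective).ge
  have az : a (f1 a e * b (f1 a e)) = f1 a e * b (f1 a e) := by rw [map_mul, hr.a_f1, hr.ab', hr.a_f1]
  have bz : b (f1 a e * b (f1 a e)) = f1 a e * b (f1 a e) := by rw [map_mul, hr.bb', hr.comm]
  have key : ∀ u ∈ UU hr, u (g (f1 a e * b (f1 a e))) = g (f1 a e * b (f1 a e)) := by
    intro u hu
    rw [← hmap] at hu
    obtain ⟨x, hx, rfl⟩ := hu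
    have hxz : x (f1 a e * b (f1 a e)) = f1 a e * b (f1 a e) := by
      rcases hx with rfl | rfl | rfl | rfl
      · rfl
      · exact az
      · exact bz
      · rw [MulAut.mul_apply, bz, az]
    show (g * x * g⁻¹) (g (f1 a e * b (f1 a e))) = _
    rw [MulAut.mul_apply, MulAut.mul_apply, MulAut.inv_apply_self, hxz]
  refine hr.uniq (fun h1 => ?_) (key a (Or.inr (Or.inl rfl))) (key b (Or.inr (Or.inr (Or.inl rfl))))
  exact hr.z_ne (g.injective (by rw [h1, map_one]))

theorem OddC.conj {u g : MulAut V} (h : OddC G u) (hg : g ∈ G) : OddC G (g * u * g⁻¹) := by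
  obtain ⟨y, hy, h1, h2, n, hn, hyn⟩ := h
  refine ⟨g * y * g⁻¹, G.mul_mem (G.mul_mem hg hy) (G.inv_mem hg), ?_, ?_, n, hn, ?_⟩
  · calc g * y * g⁻¹ * (g * u * g⁻¹) = g * (y * u) * g⁻¹ := by group
      _ = g * (u * y) * g⁻¹ := by rw [h1]
      _ = g * u * g⁻¹ * (g * y * g⁻¹) := by group
  · rwa [Ne, conj_eq_one_iff]
  · rw [conj_pow, hyn, mul_one, mul_inv_cancel]

theorem conj_eq_comm {g x : MulAut V} (h : g * x * g⁻¹ = x) : g * x = x * g := by
  rwa [mul_inv_eq_iff_eq_mul] at h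

/-- **the Sylow subgroup is self-normalizing** -/
theorem GHyp.norm (h : GHyp a b e G) (ho : OddC G a) {g : MulAut V} (hg : g ∈ G)
    (hn : ∀ x ∈ UU h.reg, g * x * g⁻¹ ∈ UU h.reg) : g ∈ UU h.reg := by
  have hr := h.reg
  have hinj : ∀ {x y : MulAut V}, g * x * g⁻¹ = g * y * g⁻¹ → x = y := fun hxy =>
    mul_left_cancel (mul_right_cancel hxy)
  have hne : ∀ {x : MulAut V}, x ≠ 1 → g * x * g⁻¹ ≠ 1 := fun hx => by rwa [Ne, conj_eq_one_iff]
  have hab : g * (a * b) * g⁻¹ = (g * a * g⁻¹) * (g * b * g⁻¹) := by group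
  have hsw : ∀ x ∈ UU h.swap.reg, g * x * g⁻¹ ∈ UU h.swap.reg := by
    intro x hx
    have h1 := hn x (by rw [mem_UU] at hx ⊢; rw [hr.ba] at hx; tauto)
    rw [mem_UU] at h1 ⊢
    rw [hr.ba]
    tauto
  have hpr : ∀ x ∈ UU h.prod.swap.reg, g * x * g⁻¹ ∈ UU h.prod.swap.reg := by
    intro x hx
    have h1 := hn x (by rw [mem_UU] at hx ⊢; rw [hr.ab_a] at hx; tauto)
    rw [mem_UU] at h1 ⊢
    rw [hr.ab_a]
    tauto
  have c1 : g * a * g⁻¹ = a → g ∈ UU hr := fun h1 => h.mem_UU' hg (conj_eq_comm h1) (h.fixz hn)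
  have c2 : g * b * g⁻¹ = b → g ∈ UU hr := fun h1 => by
    have h2 := h.swap.mem_UU' hg (conj_eq_comm h1) (h.swap.fixz hsw)
    rw [mem_UU] at h2 ⊢
    rw [hr.ba] at h2
    tauto
  have c3 : g * (a * b) * g⁻¹ = a * b → g ∈ UU hr := fun h1 => by
    have h2 := h.prod.swap.mem_UU' hg (conj_eq_comm h1) (h.prod.swap.fixz hpr)
    rw [mem_UU] at h2 ⊢
    rw [hr.ab_a] at h2
    tauto
  rcases hn a (Or.inr (Or.inl rfl)) with h1 | h1 | h1 | h1
  · exact absurd h1 (hne hr.a_ne)
  · exact c1 h1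
  · rcases hn b (Or.inr (Or.inr (Or.inl rfl))) with h2 | h2 | h2 | h2
    · exact absurd h2 (hne hr.b_ne)
    · apply c3
      rw [hab, h1, h2, hr.ba]
    · exact absurd (hinj (h1.trans h2.symm)) hr.a_ne_b
    · exfalso
      have k1 := ho.conj hg
      rw [h1] at k1
      have k2 := k1.conj hg
      rw [h2] at k2
      exact h.three ho k1 k2
  · rcases hn b (Or.inr (Or.inr (Or.inl rfl))) with h2 | h2 | h2 | h2
    · exact absurd h2 (hne hr.b_ne)
    · exfalso
      have k1 := ho.conj hg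
      rw [h1] at k1
      have k2 := k1.conj hg
      rw [hab, h1, h2, hr.ab_a] at k2
      exact h.three ho k2 k1
    · exact c2 h2
    · exact absurd (hinj (h1.trans h2.symm)) hr.a_ne_b

/-- **Burnside**: the normal complement -/
theorem GHyp.compl (h : GHyp a b e G) (hN : ∀ g ∈ G, (∀ x ∈ UU h.reg, g * x * g⁻¹ ∈ UU h.reg) → g ∈ UU h.reg) :
    ∃ O : Subgroup (MulAut V), O ≤ G ∧ Odd (Nat.card O) ∧ (∀ g ∈ G, ∀ x ∈ O, g * x * g⁻¹ ∈ O) ∧
      (∀ g ∈ G, ∃ x ∈ O, ∃ u ∈ UU h.reg, g = x * u) ∧ (∀ y ∈ G, (∃ n : ℕ, Odd n ∧ y ^ n = 1) → y ∈ O) ∧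
      Nat.card G = Nat.card O * Nat.card (UU h.reg) := by
  have hr := h.reg
  have hfV := hr.finite
  have hUG := h.UU_le
  have : Fact (Nat.Prime 2) := ⟨Nat.prime_two⟩
  have h2U : IsPGroup 2 (UU hr) := by
    rintro ⟨x, hx⟩
    refine ⟨1, Subtype.ext ?_⟩
    show x ^ (2 ^ 1) = 1
    rw [pow_one, pow_two]
    exact sq_UU hr hx
  let U' : Subgroup G := (UU hr).subgroupOf G
  have h2U' : IsPGroup 2 U' := h2U.comap_of_injective G.subtype G.subtype_injective
  obtain ⟨P, hP⟩ := h2U'.exists_le_sylow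
  have hPU : (P : Subgroup G) = U' := by
    have h1 : (P : Subgroup G).map G.subtype = UU hr := by
      refine h.eq_UU (Subgroup.map_subtype_le _) (P.isPGroup'.map G.subtype) ?_
      intro x hx
      exact ⟨⟨x, hUG hx⟩, hP (Subgroup.mem_subgroupOf.2 hx), rfl⟩
    ext x
    rw [Subgroup.mem_subgroupOf, ← h1]
    constructor
    · intro hx
      exact ⟨x, hx, rfl⟩
    · rintro ⟨y, hy, hyx⟩
      have : y = x := Subtype.ext hyx
      rwa [← this]
  have hnc : Subgroup.normalizer ((P : Subgroup G) : Set G) ≤ Subgroup.centralizer ((P : Subgroup G) : Set G) := by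
    intro g hg
    rw [Subgroup.mem_normalizer_iff] at hg
    have hgU : (g : MulAut V) ∈ UU hr := by
      refine hN g g.2 fun x hx => ?_
      have h1 := (hg ⟨x, hUG hx⟩).1 (by rw [hPU]; exact Subgroup.mem_subgroupOf.2 hx)
      rw [hPU] at h1
      exact Subgroup.mem_subgroupOf.1 h1
    rw [Subgroup.mem_centralizer_iff]
    intro x hx
    rw [hPU] at hx
    exact Subtype.ext (comm_UU hr (Subgroup.mem_subgroupOf.1 hx) hgU)
  obtain ⟨T, hT⟩ : ∃ T : G →* P, T = MonoidHom.transferSylow P hnc := ⟨_, rfl⟩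
  obtain ⟨O', hO'⟩ : ∃ O' : Subgroup G, O' = T.ker := ⟨_, rfl⟩
  have hcompl : Subgroup.IsComplement' O' (P : Subgroup G) := by
    rw [hO', hT]; exact MonoidHom.ker_transferSylow_isComplement' P hnc
  have hnd : ¬ 2 ∣ Nat.card O' := by
    rw [hO', hT]; exact MonoidHom.not_dvd_card_ker_transferSylow P hnc
  have hnor : O'.Normal := by rw [hO']; exact MonoidHom.normal_ker _
  have hcO : Nat.card (O'.map G.subtype) = Nat.card O' := Subgroup.card_map_of_injective G.subtype_injective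
  refine ⟨O'.map G.subtype, Subgroup.map_subtype_le _, ?_, ?_, ?_, ?_, ?_⟩
  · rw [hcO, ← Nat.not_even_iff_odd, even_iff_two_dvd]
    exact hnd
  · rintro g hg _ ⟨x, hx, rfl⟩
    exact ⟨⟨g, hg⟩ * x * ⟨g, hg⟩⁻¹, hnor.conj_mem x hx _, rfl⟩
  · intro g hg
    have h1 := hcompl.mul_eq
    have h2 : (⟨g, hg⟩ : G) ∈ ((O' : Set G) * ((P : Subgroup G) : Set G)) := by rw [h1]; trivial
    obtain ⟨x, hx, u, hu, hxu⟩ := Set.mem_mul.1 h2
    have hu' : u ∈ (P : Subgroup G) := hu
    rw [hPU] at hu'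
    exact ⟨x, ⟨x, hx, rfl⟩, u, Subgroup.mem_subgroupOf.1 hu', (congrArg Subtype.val hxu).symm⟩
  · rintro y hy ⟨n, hn, hyn⟩
    refine ⟨⟨y, hy⟩, ?_, rfl⟩
    show (⟨y, hy⟩ : G) ∈ O'
    rw [hO', MonoidHom.mem_ker]
    have h1 : (T ⟨y, hy⟩) ^ n = 1 := by
      rw [← map_pow]
      have : (⟨y, hy⟩ : G) ^ n = 1 := Subtype.ext hyn
      rw [this, map_one]
    obtain ⟨k, hk⟩ := P.isPGroup' (T ⟨y, hy⟩)
    have h2 : orderOf (T ⟨y, hy⟩) ∣ n := orderOf_dvd_of_pow_eq_one h1
    have h3 : orderOf (T ⟨y, hy⟩) ∣ 2 ^ k := orderOf_dvd_of_pow_eq_one hk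
    have h4 : Nat.Coprime n (2 ^ k) := Nat.Coprime.pow_right k (Nat.coprime_two_right.2 hn)
    exact orderOf_eq_one_iff.1 (Nat.eq_one_of_dvd_coprimes h4 h2 h3)
  · rw [hcO, ← hcompl.card_mul_card, hPU]
    congr 1
    exact Nat.card_congr (Subgroup.subgroupOfEquivOfLe hUG).toEquiv

theorem card_UU (h : Reg a b e) : Nat.card (UU h) = 4 := by
  classical
  have h1 : ((UU h : Subgroup (MulAut V)) : Set (MulAut V)) = (({1, a, b, a * b} : Finset (MulAut V)) : Set (MulAut V)) := by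
    ext x
    simp only [Finset.coe_insert, Finset.coe_singleton, Set.mem_insert_iff, Set.mem_singleton_iff]
    exact Iff.rfl
  have h2 : Nat.card (UU h) = ((UU h : Subgroup (MulAut V)) : Set (MulAut V)).ncard := rfl
  rw [h2, h1, Set.ncard_coe_finset]
  have e1 : a ≠ a * b := fun h3 => h.b_ne (by
    have : a * 1 = a * b := by rw [mul_one]; exact h3
    exact (mul_left_cancel this).symm)
  have e2 : b ≠ a * b := fun h3 => h.a_ne (by
    have : 1 * b = a * b := by rw [one_mul]; exact h3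
    exact (mul_right_cancel this).symm)
  rw [Finset.card_insert_of_notMem, Finset.card_insert_of_notMem, Finset.card_insert_of_notMem,
    Finset.card_singleton]
  · simpa using e2
  · simp only [Finset.mem_insert, Finset.mem_singleton, not_or]
    exact ⟨h.a_ne_b, e1⟩
  · simp only [Finset.mem_insert, Finset.mem_singleton, not_or]
    exact ⟨h.a_ne.symm, h.b_ne.symm, h.ab_ne.symm⟩

/-- an involution without fixed points of odd order inverts the complement -/
theorem inv_of_not {O : Subgroup (MulAut V)} [Finite O] (hOG : O ≤ G) (hodd : Odd (Nat.card O)) {u : MulAut V}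
    (huu : u * u = 1) (hnor : ∀ x ∈ O, u * x * u⁻¹ ∈ O) (hu : ¬ OddC G u) :
    (∀ x ∈ O, u * x * u = x⁻¹) ∧ ∀ x ∈ O, ∀ y ∈ O, x * y = y * x := by
  have hui : u⁻¹ = u := by rw [inv_eq_iff_mul_eq_one]; exact huu
  let φ : O →* O :=
    { toFun := fun x => ⟨u * x * u⁻¹, hnor x x.2⟩
      map_one' := Subtype.ext (by simp)
      map_mul' := fun x y => Subtype.ext (by
        show u * (x * y) * u⁻¹ = u * x * u⁻¹ * (u * y * u⁻¹)
        group) }
  have hfp : MonoidHom.FixedPointFree φ := by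
    intro x hx
    by_contra hne
    apply hu
    refine ⟨x, hOG x.2, ?_, fun h1 => hne (Subtype.ext h1), Nat.card O, hodd, ?_⟩
    · have h1 : u * x * u⁻¹ = x := congrArg Subtype.val hx
      rw [mul_inv_eq_iff_eq_mul] at h1
      exact h1.symm
    · rw [← Subgroup.coe_pow, pow_card_eq_one', Subgroup.coe_one]
  have hinv : Function.Involutive φ := by
    intro x
    apply Subtype.ext
    show u * (u * x * u⁻¹) * u⁻¹ = x
    rw [hui]
    calc u * (u * (x : MulAut V) * u) * u = (u * u) * x * (u * u) := by group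
      _ = x := by rw [huu, one_mul, mul_one]
  refine ⟨fun x hx => ?_, fun x hx y hy => ?_⟩
  · have h1 := congrFun (hfp.coe_eq_inv_of_involutive hinv) ⟨x, hx⟩
    have h2 : u * x * u⁻¹ = x⁻¹ := congrArg Subtype.val h1
    rwa [hui] at h2
  · exact congrArg Subtype.val (hfp.commute_all_of_involutive hinv ⟨x, hx⟩ ⟨y, hy⟩).eq

/-- **only `a` has a centralizer of even order**: `a` is central -/
theorem GHyp.central (h : GHyp a b e G) (ho : OddC G a) (h1 : ¬ OddC G b) (h2 : ¬ OddC G (a * b)) :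
    ∀ g ∈ G, g * a = a * g := by
  have hr := h.reg
  have := hr.finite
  obtain ⟨O, hOG, hodd, hnor, hdec, -, -⟩ := h.compl fun g hg hn => h.norm ho hg hn
  obtain ⟨i1, -⟩ := inv_of_not hOG hodd hr.bb (fun x hx => hnor b h.hb x hx) h1
  obtain ⟨i2, -⟩ := inv_of_not hOG hodd hr.abab (fun x hx => hnor _ (G.mul_mem h.ha h.hb) x hx) h2
  have hax : ∀ x ∈ O, x * a = a * x := by
    intro x hx
    have e1 : a * b * x * (a * b) = a * (b * x * b) * a := by
      calc a * b * x * (a * b) = a * b * x * (b * a) := by rw [hr.ba]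
        _ = _ := by group
    have e2 : a * x⁻¹ * a = x⁻¹ := by rw [← i1 x hx, ← e1, i2 x hx, i1 x hx]
    have e3 : a * x⁻¹ = x⁻¹ * a := by
      calc a * x⁻¹ = a * x⁻¹ * (a * a) := by rw [hr.aa, mul_one]
        _ = a * x⁻¹ * a * a := by group
        _ = x⁻¹ * a := by rw [e2]
    have e4 : Commute a x⁻¹ := e3
    have e5 : Commute a x := by simpa using e4.inv_right
    exact e5.eq.symm
  intro g hg
  obtain ⟨x, hx, u, hu, rfl⟩ := hdec g hg
  rw [mul_assoc, comm_UU hr hu (Or.inr (Or.inl rfl)), ← mul_assoc, hax x hx, mul_assoc]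

/-- two elements of order 3 in `C_G(a)` commuting with each other -/
theorem Reg.eq_or (h : Reg a b e) {y s : MulAut V} (hy : YS a b y) (hs : YS a b s) (hc : s * y = y * s) :
    s = y ∨ s = y * y := by
  have hya : ∀ v, y (a v) = a (y v) := fun v => by rw [← MulAut.mul_apply, hy.comm, MulAut.mul_apply]
  have hsa : ∀ v, s (a v) = a (s v) := fun v => by rw [← MulAut.mul_apply, hs.comm, MulAut.mul_apply]
  obtain ⟨m1, -, -⟩ := h.move hy.comm (n := 3) (by decide) hy.pow3 hy.ne
  obtain ⟨s1, -, -⟩ := h.move hs.comm (n := 3) (by decide) hs.pow3 hs.ne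
  have af : a (f1 a e) = f1 a e := h.a_f1
  have hyy : y (y (f1 a e)) = f1 a e * y (f1 a e) := h.yy hy _
  -- an element of order 1 or 3 commuting with `a` and fixing `f` is trivial
  have key : ∀ w : MulAut V, w * a = a * w → w ^ 3 = 1 → w (f1 a e) = f1 a e → w = 1 := by
    intro w h1 h3 h4
    by_contra hne
    exact (h.move h1 (n := 3) (by decide) h3 hne).1 h4
  have sc : Commute s y := hc
  have ca : Commute y a := hy.comm
  have cs : Commute s a := hs.comm
  have y3 : y ^ 3 = 1 := hy.pow3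
  have s3 : s ^ 3 = 1 := hs.pow3
  -- `s f` is `y f` or `y y f`
  have hcase : s (f1 a e) = y (f1 a e) ∨ s (f1 a e) = y (y (f1 a e)) := by
    have q1 := h.fix (v := y (f1 a e)) (by rw [← hya, af])
    have q2 := h.fix (v := s (f1 a e)) (by rw [← hsa, af])
    have n1 : y (f1 a e) ≠ 1 := fun h1 => h.f1_ne (y.injective (by rw [h1, map_one]))
    have n2 : s (f1 a e) ≠ 1 := fun h1 => h.f1_ne (s.injective (by rw [h1, map_one]))
    rw [hyy]
    have ff := h.sq (f1 a e)
    rcases q1 with q1 | q1 | q1 | q1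
    · exact absurd q1 n1
    · exact absurd q1 m1
    · rcases q2 with q2 | q2 | q2 | q2
      · exact absurd q2 n2
      · exact absurd q2 s1
      · left; rw [q1, q2]
      · right; rw [q1, q2]
    · rcases q2 with q2 | q2 | q2 | q2
      · exact absurd q2 n2
      · exact absurd q2 s1
      · right; rw [q1, q2, ← mul_assoc, ff, one_mul]
      · left; rw [q1, q2]
  rcases hcase with h1 | h1
  · left
    have h2 : s⁻¹ * y = 1 := by
      refine key _ ((cs.inv_left.mul_left ca).eq) ?_ ?_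
      · rw [(sc.inv_left).mul_pow, inv_pow, s3, y3, inv_one, one_mul]
      · rw [MulAut.mul_apply, ← h1, MulAut.inv_apply_self]
    rw [inv_mul_eq_one] at h2
    exact h2
  · right
    have h2 : s⁻¹ * (y * y) = 1 := by
      refine key _ ((cs.inv_left.mul_left (ca.mul_left ca)).eq) ?_ ?_
      · rw [((sc.mul_right sc).inv_left).mul_pow, inv_pow, s3, (Commute.refl y).mul_pow, y3, inv_one, one_mul,
          one_mul]
      · rw [MulAut.mul_apply, MulAut.mul_apply, ← h1, MulAut.inv_apply_self]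
    rw [inv_mul_eq_one] at h2
    exact h2

/-- **two of them**: `|G| = 36` -/
theorem GHyp.card36 (h : GHyp a b e G) (ho : OddC G a) (ho' : OddC G b) : Nat.card G = 36 := by
  classical
  have hr := h.reg
  have := hr.finite
  obtain ⟨O, hOG, hodd, hnor, -, hmem, hcard⟩ := h.compl fun g hg hn => h.norm ho hg hn
  obtain ⟨i1, hcomm⟩ := inv_of_not hOG hodd hr.abab (fun x hx => hnor _ (G.mul_mem h.ha h.hb) x hx)
    fun h3 => h.three ho ho' h3
  obtain ⟨y, hyG, hy⟩ := h.ys' ho
  obtain ⟨z, hzG, hz⟩ := h.swap.ys' ho'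
  have hyO : y ∈ O := hmem y hyG ⟨3, by decide, hy.pow3⟩
  have hzO : z ∈ O := hmem z hzG ⟨3, by decide, hz.pow3⟩
  have y3 := hy.pow3
  have z3 := hz.pow3
  have aO : ∀ x ∈ O, a * x * a ∈ O := by
    intro x hx
    have h1 := hnor a h.ha x hx
    have : a⁻¹ = a := by rw [inv_eq_iff_mul_eq_one]; exact hr.aa
    rwa [this] at h1
  have powO : ∀ x ∈ O, x ^ Nat.card O = 1 := by
    intro x hx
    have : ((⟨x, hx⟩ ^ Nat.card O : O) : MulAut V) = 1 := by rw [pow_card_eq_one', Subgroup.coe_one]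
    rwa [Subgroup.coe_pow] at this
  -- elements of `C_O(a)` and of `C_O(b)`
  have hOa : ∀ s ∈ O, s * a = a * s → s = 1 ∨ s = y ∨ s = y * y := by
    intro s hs hsa
    by_cases h1 : s = 1
    · exact Or.inl h1
    · right
      exact hr.eq_or hy (h.ys (hOG hs) hsa hodd (powO s hs) h1) (hcomm s hs y hyO)
  have hOb : ∀ s ∈ O, s * b = b * s → s = 1 ∨ s = z ∨ s = z * z := by
    intro s hs hsb
    by_cases h1 : s = 1
    · exact Or.inl h1
    · right
      exact hr.swap.eq_or hz (h.swap.ys (hOG hs) hsb hodd (powO s hs) h1) (hcomm s hs z hzO)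
  -- every element is a product
  have hprod : ∀ x ∈ O, ∃ i j : Fin 3, x = y ^ (i : ℕ) * z ^ (j : ℕ) := by
    intro x hx
    obtain ⟨m, hm⟩ := hodd
    obtain ⟨r, hr'⟩ : ∃ r, r = x ^ (m + 1) := ⟨_, rfl⟩
    have hrO : r ∈ O := by rw [hr']; exact O.pow_mem hx _
    have hrr : r * r = x := by
      rw [hr', ← pow_add, show m + 1 + (m + 1) = (2 * m + 1) + 1 by ring, ← hm, pow_succ, powO x hx, one_mul]
    have haO := aO r hrO
    have c1 := hcomm r hrO _ haO
    have i2 : b * r * b = (a * r * a)⁻¹ := by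
      have e1 := i1 _ haO
      rw [← e1]
      calc b * r * b = b * (a * a) * r * (a * a) * b := by rw [hr.aa, mul_one, mul_one]
        _ = (b * a) * (a * r * a) * (a * b) := by group
        _ = a * b * (a * r * a) * (a * b) := by rw [hr.ba]
    have s1 : (r * (a * r * a)) * a = a * (r * (a * r * a)) := by
      calc (r * (a * r * a)) * a = r * a * r * (a * a) := by group
        _ = r * a * r := by rw [hr.aa, mul_one]
        _ = (a * a) * r * a * r := by rw [hr.aa, one_mul]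
        _ = a * ((a * r * a) * r) := by group
        _ = a * (r * (a * r * a)) := by rw [← c1]
    have t1 : (r * (a * r * a)⁻¹) * b = b * (r * (a * r * a)⁻¹) := by
      rw [← i2]
      calc r * (b * r * b) * b = r * b * r * (b * b) := by group
        _ = r * b * r := by rw [hr.bb, mul_one]
        _ = (b * b) * r * b * r := by rw [hr.bb, one_mul]
        _ = b * ((b * r * b) * r) := by group
        _ = b * (r * (b * r * b)) := by
          rw [i2, hcomm _ (O.inv_mem haO) r hrO]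
    have hst : x = (r * (a * r * a)) * (r * (a * r * a)⁻¹) := by
      rw [c1, mul_assoc, ← mul_assoc r r, hrr, ← mul_assoc, hcomm _ haO x hx, mul_assoc, mul_inv_cancel, mul_one]
    have q1 := hOa _ (O.mul_mem hrO haO) s1
    have q2 := hOb _ (O.mul_mem hrO (O.inv_mem haO)) t1
    have q1' : ∃ i : Fin 3, r * (a * r * a) = y ^ (i : ℕ) := by
      rcases q1 with q | q | q
      · exact ⟨0, by rw [q]; rfl⟩
      · exact ⟨1, by rw [q]; simp⟩
      · exact ⟨2, by rw [q]; simp [pow_two]⟩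
    have q2' : ∃ i : Fin 3, r * (a * r * a)⁻¹ = z ^ (i : ℕ) := by
      rcases q2 with q | q | q
      · exact ⟨0, by rw [q]; rfl⟩
      · exact ⟨1, by rw [q]; simp⟩
      · exact ⟨2, by rw [q]; simp [pow_two]⟩
    obtain ⟨i, hi⟩ := q1'
    obtain ⟨j, hj⟩ := q2'
    exact ⟨i, j, by rw [hst, hi, hj]⟩
  -- at most 9
  have hle : Nat.card O ≤ 9 := by
    let φ : Fin 3 × Fin 3 → O := fun ij => ⟨y ^ (ij.1 : ℕ) * z ^ (ij.2 : ℕ),
      O.mul_mem (O.pow_mem hyO _) (O.pow_mem hzO _)⟩
    have hs : Function.Surjective φ := by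
      rintro ⟨x, hx⟩
      obtain ⟨i, j, hij⟩ := hprod x hx
      exact ⟨(i, j), Subtype.ext hij.symm⟩
    have h9 : Nat.card (Fin 3 × Fin 3) = 9 := by simp
    rw [← h9]
    exact Nat.card_le_card_of_surjective φ hs
  -- divisible by 3
  have hoy : orderOf y = 3 := orderOf_eq_prime y3 hy.ne
  have h3 : 3 ∣ Nat.card O := by
    have h1 := Subgroup.card_dvd_of_le (show Subgroup.zpowers y ≤ O by rw [Subgroup.zpowers_le]; exact hyO)
    rwa [Nat.card_zpowers, hoy] at h1
  -- not 3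
  have hne : Nat.card O ≠ 3 := by
    intro h33
    have h1 : Subgroup.zpowers y = O := by
      apply Subgroup.eq_of_le_of_card_ge (by rw [Subgroup.zpowers_le]; exact hyO)
      rw [Nat.card_zpowers, hoy, h33]
    rw [← h1] at hzO
    obtain ⟨k, hk⟩ := Subgroup.mem_zpowers_iff.1 hzO
    have c : Commute y a := hy.comm
    have h2 : z * a = a * z := by rw [← hk]; exact (c.zpow_left k).eq
    have h4 : a * z * a = z⁻¹ := hz.inv
    rw [← h2, mul_assoc, hr.aa, mul_one] at h4
    have h5 : z * z = 1 := by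
      nth_rw 2 [h4]
      exact mul_inv_cancel z
    exact hz.ne (eq_one_of_odd (n := 3) (by decide) z3 h5)
  have h9 : Nat.card O = 9 := by
    obtain ⟨k, hk⟩ := h3
    rw [hk] at hodd hle hne ⊢
    have hk3 : k ≤ 3 := by omega
    interval_cases k
    · exact absurd hodd (by decide)
    · exact absurd rfl hne
    · exact absurd hodd (by decide)
    · rfl
  rw [hcard, h9, card_UU]

end Cfsg.Agent.H834.P4
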