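import Cfsg.Agent.H834.P4.RegY

/-!
# S5210, q = 2: groups with the Sylow 2-subgroup `{1, a, b, ab}` acting regularly (helper834)

* `GHyp a b e G`: `{1, a, b, ab}` is a Sylow 2-subgroup of `G`;
* `OddC G u`: a nontrivial element of odd order in `C_G(u)`;
* `GHyp.three`: not all of `OddC G a`, `OddC G b`, `OddC G (ab)`;
* `GHyp.norm`: if `OddC G a` then the Sylow subgroup is self-normalizing;
* `GHyp.card36`: if `OddC G a` and `OddC G b` then `|G| = 36`;
* `GHyp.central`: if `OddC G a` only, then `a` is central in `G`.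
-/

set_option autoImplicit false

namespace Cfsg.Agent.H834.P4

universe u

variable {V : Type u} [Group V] {a b : MulAut V} {e : V}

/-- the Sylow hypothesis -/
structure GHyp (a b : MulAut V) (e : V) (G : Subgroup (MulAut V)) : Prop where
  reg : Reg a b e
  ha : a ∈ G
  hb : b ∈ G
  syl : ∀ P : Subgroup (MulAut V), P ≤ G → IsPGroup 2 P →
    ∃ g ∈ G, ∀ x ∈ P, g * x * g⁻¹ = 1 ∨ g * x * g⁻¹ = a ∨ g * x * g⁻¹ = b ∨ g * x * g⁻¹ = a * b

/-- a nontrivial element of odd order in `C_G(u)` -/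
def OddC (G : Subgroup (MulAut V)) (u : MulAut V) : Prop :=
  ∃ y ∈ G, y * u = u * y ∧ y ≠ 1 ∧ ∃ n : ℕ, Odd n ∧ y ^ n = 1

variable {G : Subgroup (MulAut V)}

theorem Reg.ba (h : Reg a b e) : b * a = a * b := h.ab.symm

theorem Reg.a_ab (h : Reg a b e) : a * (a * b) = b := by rw [← mul_assoc, h.aa, one_mul]

theorem Reg.ab_a (h : Reg a b e) : a * b * a = b := by rw [mul_assoc, h.ba, h.a_ab]

theorem Reg.ab_b (h : Reg a b e) : a * b * b = a := by rw [mul_assoc, h.bb, mul_one]

theorem Reg.b_ab (h : Reg a b e) : b * (a * b) = a := by rw [← mul_assoc, h.ba, h.ab_b]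

theorem Reg.abab (h : Reg a b e) : a * b * (a * b) = 1 := by rw [← mul_assoc, h.ab_a, h.bb]

theorem GHyp.swap (h : GHyp a b e G) : GHyp b a e G := by
  refine ⟨h.reg.swap, h.hb, h.ha, fun P hP h2 => ?_⟩
  obtain ⟨g, hg, hx⟩ := h.syl P hP h2
  refine ⟨g, hg, fun x hxP => ?_⟩
  rw [h.reg.ba]
  have := hx x hxP
  tauto

theorem GHyp.prod (h : GHyp a b e G) : GHyp a (a * b) e G := by
  refine ⟨h.reg.prod, h.ha, G.mul_mem h.ha h.hb, fun P hP h2 => ?_⟩
  obtain ⟨g, hg, hx⟩ := h.syl P hP h2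
  refine ⟨g, hg, fun x hxP => ?_⟩
  rw [h.reg.a_ab]
  have := hx x hxP
  tauto

theorem Reg.finite (h : Reg a b e) : Finite V := Finite.of_surjective (cod a b e) h.surj

/-- the Sylow subgroup -/
def UU (h : Reg a b e) : Subgroup (MulAut V) where
  carrier := {x | x = 1 ∨ x = a ∨ x = b ∨ x = a * b}
  one_mem' := Or.inl rfl
  mul_mem' := by
    rintro x y (rfl | rfl | rfl | rfl) (rfl | rfl | rfl | rfl) <;>
      simp only [Set.mem_ofPred_eq, one_mul, mul_one, h.aa, h.bb, h.ba, h.a_ab, h.ab_a, h.ab_b, h.b_ab, h.abab,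
        true_or, or_true]
  inv_mem' := by
    have ia : a⁻¹ = a := by rw [inv_eq_iff_mul_eq_one]; exact h.aa
    have ib : b⁻¹ = b := by rw [inv_eq_iff_mul_eq_one]; exact h.bb
    rintro x (rfl | rfl | rfl | rfl) <;>
      simp only [Set.mem_ofPred_eq, inv_one, mul_inv_rev, ia, ib, h.ba, true_or, or_true]

theorem mem_UU (h : Reg a b e) {x : MulAut V} : x ∈ UU h ↔ x = 1 ∨ x = a ∨ x = b ∨ x = a * b := Iff.rfl

theorem Reg.b_ne (h : Reg a b e) : b ≠ 1 := h.swap.a_ne

theorem Reg.a_ne_b (h : Reg a b e) : a ≠ b := by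
  intro h1
  apply h.prod.b_ne
  rw [← h1, h.aa]

theorem Reg.ab_ne (h : Reg a b e) : a * b ≠ 1 := h.prod.b_ne

theorem GHyp.UU_le (h : GHyp a b e G) : UU h.reg ≤ G := by
  rintro x (rfl | rfl | rfl | rfl)
  · exact G.one_mem
  · exact h.ha
  · exact h.hb
  · exact G.mul_mem h.ha h.hb

theorem sq_UU (h : Reg a b e) {x : MulAut V} (hx : x ∈ UU h) : x * x = 1 := by
  rcases hx with rfl | rfl | rfl | rfl
  · exact one_mul 1
  · exact h.aa
  · exact h.bb
  · exact h.abab

theorem comm_UU (h : Reg a b e) {x y : MulAut V} (hx : x ∈ UU h) (hy : y ∈ UU h) : x * y = y * x := by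
  have h1 := sq_UU h ((UU h).mul_mem hx hy)
  have h2 := sq_UU h hx
  have h3 := sq_UU h hy
  calc x * y = x * y * ((y * x) * (x * y)) * (y * x * (y * x)) := by
        have e1 : (y * x) * (x * y) = 1 := by
          calc y * x * (x * y) = y * (x * x) * y := by group
            _ = 1 := by rw [h2, mul_one, h3]
        rw [e1, sq_UU h ((UU h).mul_mem hy hx), mul_one, mul_one]
    _ = x * y * (y * x) * (x * y) * (y * x) * (y * x) := by group
    _ = y * x := by
        have e1 : x * y * (y * x) = 1 := by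
          calc x * y * (y * x) = x * (y * y) * x := by group
            _ = 1 := by rw [h3, mul_one, h2]
        have e2 : (x * y) * (y * x) = 1 := e1
        rw [e1, one_mul, e2, one_mul]

/-- a 2-subgroup containing the Sylow subgroup -/
theorem GHyp.eq_UU (h : GHyp a b e G) {P : Subgroup (MulAut V)} (hP : P ≤ G) (h2 : IsPGroup 2 P)
    (hU : UU h.reg ≤ P) : P = UU h.reg := by
  have := h.reg.finite
  obtain ⟨g, -, hx⟩ := h.syl P hP h2
  symm
  apply Subgroup.eq_of_le_of_card_ge hU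
  have h3 : Nat.card P = Nat.card (P.map (MulAut.conj g).toMonoidHom) :=
    (Subgroup.card_map_of_injective (MulAut.conj g).injective).symm
  rw [h3]
  apply Subgroup.card_le_of_le
  rintro _ ⟨x, hxP, rfl⟩
  exact hx x hxP

theorem GHyp.sq_one (h : GHyp a b e G) {w : MulAut V} (hw : w ∈ G) (h4 : (w * w) * (w * w) = 1) : w * w = 1 := by
  have h2 : IsPGroup 2 (Subgroup.zpowers w) := by
    rintro ⟨x, hx⟩
    obtain ⟨k, rfl⟩ := Subgroup.mem_zpowers_iff.1 hx
    refine ⟨2, Subtype.ext ?_⟩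
    show (w ^ k) ^ (2 ^ 2) = 1
    have e1 : w ^ (2 ^ 2) = 1 := by
      rw [show (2 : ℕ) ^ 2 = 2 * 2 from rfl, pow_mul, pow_two, pow_two]; exact h4
    rw [← zpow_natCast, ← zpow_mul, mul_comm, zpow_mul, zpow_natCast, e1, one_zpow]
  obtain ⟨g, -, hx⟩ := h.syl _ (by rw [Subgroup.zpowers_le]; exact hw) h2
  have h3 := sq_UU h.reg (x := g * w * g⁻¹) (hx w (Subgroup.mem_zpowers w))
  have h5 : g * (w * w) * g⁻¹ = 1 := by
    rw [← h3]; group
  rwa [conj_eq_one_iff] at h5

/-- the action of an element commuting with `a` and fixing `z = f·b(f)` -/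
theorem Reg.fix_z (h : Reg a b e) {g : MulAut V} (hg : g * a = a * g)
    (hz : g (f1 a e * b (f1 a e)) = f1 a e * b (f1 a e)) :
    (g (f1 a e) = f1 a e ∧ g (b (f1 a e)) = b (f1 a e)) ∨ (g (f1 a e) = b (f1 a e) ∧ g (b (f1 a e)) = f1 a e) := by
  have hga : ∀ v, g (a v) = a (g v) := fun v => by rw [← MulAut.mul_apply, hg, MulAut.mul_apply]
  obtain ⟨f, hf⟩ : ∃ f, f = f1 a e := ⟨_, rfl⟩
  obtain ⟨k, hk⟩ : ∃ k, k = b (f1 a e) := ⟨_, rfl⟩
  rw [← hk, ← hf] at hz ⊢
  have af : a f = f := by rw [hf]; exact h.a_f1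
  have f_ne : f ≠ 1 := by rw [hf]; exact h.f1_ne
  have k_ne : k ≠ 1 := by rw [hk]; exact fun h1 => h.f1_ne (b.injective (by rw [h1, map_one]))
  have h1 := h.fix (v := g f) (by rw [← hga, af])
  rw [← hk, ← hf] at h1
  rcases h1 with h1 | h1 | h1 | h1
  · exact absurd (g.injective (by rw [h1, map_one])) f_ne
  · left
    refine ⟨h1, ?_⟩
    rw [map_mul, h1] at hz
    exact mul_left_cancel hz
  · right
    refine ⟨h1, ?_⟩
    rw [map_mul, h1, h.comm f k] at hz
    exact mul_left_cancel hz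
  · exfalso
    rw [map_mul, h1] at hz
    have h2 : g k = 1 := by
      have : f * k * g k = f * k * 1 := by rw [hz, mul_one]
      exact mul_left_cancel this
    exact k_ne (g.injective (by rw [h2, map_one]))

/-- **the centralizer of `z` in `C_G(a)`** -/
theorem GHyp.mem_UU' (h : GHyp a b e G) {g : MulAut V} (hg : g ∈ G) (hga : g * a = a * g)
    (hz : g (f1 a e * b (f1 a e)) = f1 a e * b (f1 a e)) : g ∈ UU h.reg := by
  have hr := h.reg
  let P : Subgroup (MulAut V) :=
    { carrier := {g | g ∈ G ∧ g * a = a * g ∧ g (f1 a e * b (f1 a e)) = f1 a e * b (f1 a e)}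
      one_mem' := ⟨G.one_mem, by rw [one_mul, mul_one], by rw [MulAut.one_apply]⟩
      mul_mem' := by
        rintro x y ⟨h1, h2, h3⟩ ⟨k1, k2, k3⟩
        refine ⟨G.mul_mem h1 k1, ?_, ?_⟩
        · rw [mul_assoc, k2, ← mul_assoc, h2, mul_assoc]
        · rw [MulAut.mul_apply, k3, h3]
      inv_mem' := by
        rintro x ⟨h1, h2, h3⟩
        refine ⟨G.inv_mem h1, ?_, ?_⟩
        · have : Commute x a := h2
          exact this.inv_left
        · apply x.injective
          rw [h3, ← MulAut.mul_apply, mul_inv_cancel, MulAut.one_apply] }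
  have hPG : P ≤ G := fun x hx => hx.1
  have h2 : IsPGroup 2 P := by
    rintro ⟨x, hx⟩
    refine ⟨2, Subtype.ext ?_⟩
    show x ^ (2 ^ 2) = 1
    rw [show (2 : ℕ) ^ 2 = 2 * 2 from rfl, pow_mul, pow_two, pow_two]
    have hxx : (x * x) * a = a * (x * x) := by rw [mul_assoc, hx.2.1, ← mul_assoc, hx.2.1, mul_assoc]
    rcases hr.fix_z hx.2.1 hx.2.2 with ⟨h1, h2⟩ | ⟨h1, h2⟩
    · exact hr.sq_of_fix hxx (by rw [MulAut.mul_apply, h1, h1]) (by rw [MulAut.mul_apply, h2, h2])
    · exact hr.sq_of_fix hxx (by rw [MulAut.mul_apply, h1, h2]) (by rw [MulAut.mul_apply, h2, h1])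
  have hU : UU hr ≤ P := by
    have ha : a ∈ P := by
      refine ⟨h.ha, rfl, ?_⟩
      rw [map_mul, hr.a_f1, hr.ab', hr.a_f1]
    have hb : b ∈ P := by
      refine ⟨h.hb, hr.ba, ?_⟩
      rw [map_mul, hr.bb', hr.comm]
    rintro x (rfl | rfl | rfl | rfl)
    · exact P.one_mem
    · exact ha
    · exact hb
    · exact P.mul_mem ha hb
  rw [← h.eq_UU hPG h2 hU]
  exact ⟨hg, hga, hz⟩

/-- an element of odd order in `C_G(a)` has order 3 and is inverted by `b` -/
theorem GHyp.ys (h : GHyp a b e G) {y : MulAut V} (hyG : y ∈ G) (hy : y * a = a * y) {n : ℕ} (hn : Odd n)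
    (hyn : y ^ n = 1) (hy1 : y ≠ 1) : YS a b y := by
  have hr := h.reg
  have hya : ∀ v, y (a v) = a (y v) := fun v => by rw [← MulAut.mul_apply, hy, MulAut.mul_apply]
  obtain ⟨m1, m2, m3⟩ := hr.move hy hn hyn hy1
  obtain ⟨f, hf⟩ : ∃ f, f = f1 a e := ⟨_, rfl⟩
  obtain ⟨g, hg⟩ : ∃ g, g = b (f1 a e) := ⟨_, rfl⟩
  have bf : b f = g := by rw [hf, hg]
  have bg : b g = f := by rw [hg, hr.bb', hf]
  have z_eq : f1 a e * b (f1 a e) = f * g := by rw [← hf, bf]
  have sqf : ∀ {w : MulAut V}, w * a = a * w → w f = f → w g = g → w * w = 1 := by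
    intro w hw h1 h2
    refine hr.sq_of_fix hw ?_ ?_
    · rw [← hf]; exact h1
    · rw [← hg]; exact h2
  rw [← hf] at m1
  rw [← hg] at m2
  rw [z_eq] at m3
  have af : a f = f := by rw [hf]; exact hr.a_f1
  have ag : a g = g := by rw [hg, hr.ab', hr.a_f1]
  have f_ne : f ≠ 1 := by rw [hf]; exact hr.f1_ne
  have g_ne : g ≠ 1 := by rw [hg]; exact fun h1 => hr.f1_ne (b.injective (by rw [h1, map_one]))
  have cases : ∀ v, a v = v → v = 1 ∨ v = f ∨ v = g ∨ v = f * g := by
    intro v hv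
    have := hr.fix hv
    rw [← hf, bf] at this
    exact this
  have yf := cases (y f) (by rw [← hya, af])
  have yg := cases (y g) (by rw [← hya, ag])
  have yf1 : y f ≠ 1 := fun h1 => f_ne (y.injective (by rw [h1, map_one]))
  have yg1 : y g ≠ 1 := fun h1 => g_ne (y.injective (by rw [h1, map_one]))
  have ff := hr.sq f
  have gg := hr.sq g
  have gf := hr.comm g f
  have fp1 : g * (f * g) = f := by rw [← mul_assoc, gf, mul_assoc, gg, mul_one]
  have fp2 : f * (f * g) = g := by rw [← mul_assoc, ff, one_mul]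
  -- the two cases
  have key : (y f = g ∧ y g = f * g) ∨ (y f = f * g ∧ y g = f) := by
    rcases yf with h1 | h1 | h1 | h1
    · exact absurd h1 yf1
    · exact absurd h1 m1
    · left
      refine ⟨h1, ?_⟩
      rcases yg with h2 | h2 | h2 | h2
      · exact absurd h2 yg1
      · exfalso
        apply m3
        rw [map_mul, h1, h2, gf]
      · exact absurd h2 m2
      · exact h2
    · right
      refine ⟨h1, ?_⟩
      rcases yg with h2 | h2 | h2 | h2
      · exact absurd h2 yg1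
      · exact h2
      · exact absurd h2 m2
      · exfalso
        have : y f = y g := by rw [h1, h2]
        have h3 := y.injective this
        apply f_ne
        have h4 : f * g = 1 := by rw [h3, gg]
        rw [h4] at h1
        exact absurd h1 yf1
  -- order 3
  have hyy : (y * y) * a = a * (y * y) := by rw [mul_assoc, hy, ← mul_assoc, hy, mul_assoc]
  have hyyy : (y * y * y) * a = a * (y * y * y) := by rw [mul_assoc, hy, ← mul_assoc, hyy, mul_assoc]
  have y3f : y (y (y f)) = f := by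
    rcases key with ⟨h1, h2⟩ | ⟨h1, h2⟩
    · rw [h1, h2, map_mul, h1, h2, fp1]
    · rw [h1, map_mul, h1, h2, mul_assoc, gf, ← mul_assoc, ff, one_mul, h2]
  have y3g : y (y (y g)) = g := by
    rcases key with ⟨h1, h2⟩ | ⟨h1, h2⟩
    · rw [h2, map_mul, h1, h2, fp1, h1]
    · rw [h2, h1, map_mul, h1, h2, mul_assoc, gf, ← mul_assoc, ff, one_mul]
  have hcube : y * y * y = 1 := by
    refine eq_one_of_odd hn ?_ (sqf hyyy y3f y3g)
    have : y * y * y = y ^ 3 := by rw [pow_succ, pow_two]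
    rw [this, ← pow_mul, mul_comm, pow_mul, hyn, one_pow]
  refine ⟨hy, ?_, hcube, hy1⟩
  -- `k = b y b y`
  have hbyb : (b * y * b) * a = a * (b * y * b) := by
    calc b * y * b * a = b * y * (a * b) := by rw [mul_assoc, hr.ba]
      _ = b * (y * a) * b := by group
      _ = b * (a * y) * b := by rw [hy]
      _ = (b * a) * y * b := by group
      _ = (a * b) * y * b := by rw [hr.ba]
      _ = a * (b * y * b) := by group
  have hk : (b * y * b * y) * a = a * (b * y * b * y) := by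
    rw [mul_assoc, hy, ← mul_assoc, hbyb, mul_assoc]
  have kf : (b * y * b * y) f = f := by
    simp only [MulAut.mul_apply]
    rcases key with ⟨h1, h2⟩ | ⟨h1, h2⟩
    · rw [h1, bg, h1, bg]
    · rw [h1, map_mul, bf, bg, map_mul, h1, h2, fp2, bg]
  have kg : (b * y * b * y) g = g := by
    simp only [MulAut.mul_apply]
    rcases key with ⟨h1, h2⟩ | ⟨h1, h2⟩
    · rw [h2, map_mul, bf, bg, map_mul, h1, h2, mul_assoc, gg, mul_one, bf]
    · rw [h2, bf, h2, bf]
  have hkU : b * y * b * y ∈ UU hr := by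
    refine h.mem_UU' (G.mul_mem (G.mul_mem (G.mul_mem h.hb hyG) h.hb) hyG) hk ?_
    rw [z_eq, map_mul, kf, kg]
  rcases hkU with h1 | h1 | h1 | h1
  · rw [eq_inv_iff_mul_eq_one]; exact h1
  · exfalso
    have h2 : b * y * b = a * y⁻¹ := by rw [eq_mul_inv_iff_mul_eq]; exact h1
    have h3 : (b * y * b) * (b * y * b) * (b * y * b) = 1 := by
      calc (b * y * b) * (b * y * b) * (b * y * b) = b * y * (b * b) * y * (b * b) * y * b := by group
        _ = b * (y * y * y) * b := by rw [hr.bb]; group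
        _ = 1 := by rw [hcube, mul_one, hr.bb]
    have c1 : Commute a y⁻¹ := (show Commute y a from hy).symm.inv_right
    have h4 : (a * y⁻¹) * (a * y⁻¹) * (a * y⁻¹) = a := by
      calc (a * y⁻¹) * (a * y⁻¹) * (a * y⁻¹) = a * (y⁻¹ * a) * (y⁻¹ * a) * y⁻¹ := by group
        _ = a * (a * y⁻¹) * (a * y⁻¹) * y⁻¹ := by rw [c1.eq]
        _ = (a * a) * (y⁻¹ * a) * (y⁻¹ * y⁻¹) := by group
        _ = (a * a) * (a * y⁻¹) * (y⁻¹ * y⁻¹) := by rw [c1.eq]
        _ = (a * a) * a * (y * y * y)⁻¹ := by group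
        _ = a := by rw [hcube, hr.aa]; group
    rw [h2, h4] at h3
    exact hr.a_ne h3
  · exfalso
    have := DFunLike.congr_fun h1 f
    rw [kf, bf] at this
    exact hr.bf_ne (by rw [← hf, bf]; exact this.symm)
  · exfalso
    have := DFunLike.congr_fun h1 f
    rw [kf, MulAut.mul_apply, bf, ag] at this
    exact hr.bf_ne (by rw [← hf, bf]; exact this.symm)

theorem GHyp.ys' (h : GHyp a b e G) (ho : OddC G a) : ∃ y ∈ G, YS a b y := by
  obtain ⟨y, hy, h1, h2, n, hn, hyn⟩ := ho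
  exact ⟨y, hy, h.ys hy h1 hn hyn h2⟩

/-- two elements of order 3 commute -/
theorem GHyp.comm3 (h : GHyp a b e G) {y z : MulAut V} (hyG : y ∈ G) (hzG : z ∈ G) (hy : YS a b y)
    (hz : YS b a z) : y * z = z * y := by
  rcases h.reg.cd hy hz with h1 | ⟨h1, h2⟩
  · exact h1
  · exact absurd (h.sq_one (G.mul_mem h.ha (G.mul_mem hyG hzG)) h1) h2

theorem YS.other (h : Reg a b e) {y : MulAut V} (hy : YS a b y) : YS a (a * b) y := by
  refine ⟨hy.comm, ?_, hy.cube, hy.ne⟩
  rw [← hy.inv]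
  calc a * b * y * (a * b) = (b * a) * y * (a * b) := by rw [h.ba]
    _ = b * (a * y) * (a * b) := by group
    _ = b * (y * a) * (a * b) := by rw [hy.comm]
    _ = b * y * (a * a) * b := by group
    _ = b * y * b := by rw [h.aa, mul_one]

/-- **not all three** -/
theorem GHyp.three (h : GHyp a b e G) (h1 : OddC G a) (h2 : OddC G b) (h3 : OddC G (a * b)) : False := by
  obtain ⟨y, hyG, hy⟩ := h.ys' h1
  obtain ⟨z, hzG, hz⟩ := h.swap.ys' h2
  obtain ⟨t, htG, ht⟩ := h.prod.swap.ys' h3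
  have hr := h.reg
  refine hr.ce hy hz ht (h.comm3 hyG hzG hy hz) ?_ ?_
  · exact h.prod.comm3 hyG htG (hy.other hr) ht
  · -- the pair `b`, `ab = ba`
    have h4 : GHyp b (b * a) e G := h.swap.prod
    have e1 : YS (b * a) b t := by
      have := ht.other h.reg.prod.swap
      rw [h.reg.ab_a] at this
      rw [h.reg.ba]
      exact this
    exact h4.comm3 hzG htG (hz.other hr.swap) e1

end Cfsg.Agent.H834.P4
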