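import Cfsg.Agent.H834.P4.Reg

/-!
# S5210, q = 2: the elements of order 3 (helper834)

`YS a b y`: `y` has order 3, commutes with `a` and is inverted by `b`.

* `Reg.swap`, `Reg.prod`: change of the basis of the four-group;
* `Reg.sq_of_fix`, `Reg.move`: the action on `C_V(a)`;
* `Reg.cd`, `Reg.ce`: two resp. three such elements.
-/

set_option autoImplicit false

namespace Cfsg.Agent.H834.P4

universe u

variable {V : Type u} [Group V] {a b : MulAut V} {e : V}

/-- order 3, commutes with `a`, inverted by `b` -/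
structure YS (a b y : MulAut V) : Prop where
  comm : y * a = a * y
  inv : b * y * b = y⁻¹
  cube : y * y * y = 1
  ne : y ≠ 1

theorem Reg.swap (h : Reg a b e) : Reg b a e := by
  have key : ∀ x : W, cod b a e x = cod a b e (x.1, x.2.2.1, x.2.1, x.2.2.2) := by
    intro x
    unfold cod
    simp only
    rw [← h.ab' e]
    have hc := h.comm
    calc pw e x.1 * pw (b e) x.2.1 * (pw (a e) x.2.2.1 * pw (a (b e)) x.2.2.2)
        = pw e x.1 * (pw (b e) x.2.1 * pw (a e) x.2.2.1) * pw (a (b e)) x.2.2.2 := by simp only [mul_assoc]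
      _ = pw e x.1 * (pw (a e) x.2.2.1 * pw (b e) x.2.1) * pw (a (b e)) x.2.2.2 := by rw [hc (pw (b e) x.2.1)]
      _ = pw e x.1 * pw (a e) x.2.2.1 * (pw (b e) x.2.1 * pw (a (b e)) x.2.2.2) := by simp only [mul_assoc]
  refine ⟨h.comm, h.sq, h.bb, h.aa, h.ab.symm, fun v => ?_, fun x y hxy => ?_⟩
  · obtain ⟨x, rfl⟩ := h.surj v
    exact ⟨(x.1, x.2.2.1, x.2.1, x.2.2.2), by rw [key]⟩
  · rw [key, key] at hxy
    have h1 := h.inj _ _ hxy
    obtain ⟨x0, x1, x2, x3⟩ := x
    obtain ⟨y0, y1, y2, y3⟩ := y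
    simp only [Prod.mk.injEq] at h1 ⊢
    tauto

theorem Reg.prod (h : Reg a b e) : Reg a (a * b) e := by
  have key : ∀ x : W, cod a (a * b) e x = cod a b e (x.1, x.2.1, x.2.2.2, x.2.2.1) := by
    intro x
    unfold cod
    simp only [MulAut.mul_apply]
    rw [h.aa' (b e), h.comm (pw (a (b e)) x.2.2.1)]
  have e1 : a * b * (a * b) = 1 := by
    calc a * b * (a * b) = a * (b * a) * b := by group
      _ = a * (a * b) * b := by rw [h.ab]
      _ = (a * a) * (b * b) := by group
      _ = 1 := by rw [h.aa, h.bb, one_mul]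
  refine ⟨h.comm, h.sq, h.aa, e1, ?_, fun v => ?_, fun x y hxy => ?_⟩
  · rw [mul_assoc, h.ab]
  · obtain ⟨x, rfl⟩ := h.surj v
    exact ⟨(x.1, x.2.1, x.2.2.2, x.2.2.1), by rw [key]⟩
  · rw [key, key] at hxy
    have h1 := h.inj _ _ hxy
    obtain ⟨x0, x1, x2, x3⟩ := x
    obtain ⟨y0, y1, y2, y3⟩ := y
    simp only [Prod.mk.injEq] at h1 ⊢
    tauto

/-! ### The subgroup `C_V(a)` -/

/-- `e · a(e)` -/
def f1 (a : MulAut V) (e : V) : V := e * a e

theorem fixB : ∀ x : W, app A4 x = x → x = (false, false, false, false) ∨ x = (true, true, false, false) ∨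
    x = (false, false, true, true) ∨ x = (true, true, true, true) := by
  rintro ⟨i, j, k, l⟩
  cases i <;> cases j <;> cases k <;> cases l <;> decide

theorem Reg.fix (h : Reg a b e) {v : V} (hv : a v = v) :
    v = 1 ∨ v = f1 a e ∨ v = b (f1 a e) ∨ v = f1 a e * b (f1 a e) := by
  obtain ⟨x, rfl⟩ := h.surj v
  rw [h.rep_app h.rep_a] at hv
  have h1 := fixB x (h.inj _ _ hv)
  have e3 : b (a e) = a (b e) := (h.ab' e).symm
  rcases h1 with rfl | rfl | rfl | rfl
  · left; simp [cod, pw]
  · right; left; simp [cod, pw, f1]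
  · right; right; left
    simp [cod, pw, f1, e3]
  · right; right; right
    simp [cod, pw, f1, e3]

theorem Reg.a_f1 (h : Reg a b e) : a (f1 a e) = f1 a e := by
  rw [f1, map_mul, h.aa', h.comm]

theorem Reg.f1_ne (h : Reg a b e) : f1 a e ≠ 1 := by
  intro h1
  have h2 : cod a b e (true, true, false, false) = cod a b e (false, false, false, false) := by
    simpa [cod, pw, f1] using h1
  have := h.inj _ _ h2
  simp at this

theorem Reg.bf_ne (h : Reg a b e) : b (f1 a e) ≠ f1 a e := by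
  intro h1
  have e3 : b (a e) = a (b e) := (h.ab' e).symm
  have h2 : cod a b e (false, false, true, true) = cod a b e (true, true, false, false) := by
    simpa [cod, pw, f1, e3] using h1
  have := h.inj _ _ h2
  simp at this

theorem Reg.inv_eq (h : Reg a b e) (v : V) : v⁻¹ = v := by
  rw [inv_eq_iff_mul_eq_one]; exact h.sq v

theorem Reg.a_ne (h : Reg a b e) : a ≠ 1 := by
  intro h1
  apply h.f1_ne
  rw [f1, h1, MulAut.one_apply, h.sq]

/-- `y` commutes with `a` and fixes `C_V(a)` -/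
theorem Reg.sq_of_fix (h : Reg a b e) {y : MulAut V} (hy : y * a = a * y) (h1 : y (f1 a e) = f1 a e)
    (h2 : y (b (f1 a e)) = b (f1 a e)) : y * y = 1 := by
  have hya : ∀ v, y (a v) = a (y v) := fun v => by rw [← MulAut.mul_apply, hy, MulAut.mul_apply]
  have hfix : ∀ v, a v = v → y v = v := by
    intro v hv
    rcases h.fix hv with rfl | rfl | rfl | rfl
    · exact map_one y
    · exact h1
    · exact h2
    · rw [map_mul, h1, h2]
  ext v
  have k1 : y (v * a v) = v * a v := hfix _ (by rw [map_mul, h.aa', h.comm])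
  rw [map_mul, hya] at k1
  -- `t = v · y v` is fixed by `a`
  have k2 : a (v * y v) = v * y v := by
    have : v * y v * (a v * a (y v)) = 1 := by
      calc v * y v * (a v * a (y v)) = (y v * a (y v)) * (v * a v) := by
            rw [h.comm v (y v), mul_assoc, mul_assoc, ← mul_assoc v, h.comm (v * a v)]
        _ = 1 := by rw [k1, h.sq]
    rw [map_mul]
    rw [← inv_eq_iff_mul_eq_one, h.inv_eq] at this
    exact this.symm
  have k3 := hfix _ k2
  rw [map_mul] at k3
  -- y v * y (y v) = v * y v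
  rw [MulAut.mul_apply, MulAut.one_apply]
  have k4 : y v * y (y v) = y v * v := by rw [k3, h.comm]
  exact mul_left_cancel k4

theorem eq_one_of_odd {M : Type*} [Group M] {y : M} {n : ℕ} (hn : Odd n) (h : y ^ n = 1) (h2 : y * y = 1) : y = 1 := by
  obtain ⟨k, rfl⟩ := hn
  rwa [pow_succ, pow_mul, pow_two, h2, one_pow, one_mul] at h

/-- an element of odd order commuting with `a` moves the elements of `C_V(a)` -/
theorem Reg.move (h : Reg a b e) {y : MulAut V} (hy : y * a = a * y) {n : ℕ} (hn : Odd n) (hyn : y ^ n = 1)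
    (hy1 : y ≠ 1) : y (f1 a e) ≠ f1 a e ∧ y (b (f1 a e)) ≠ b (f1 a e) ∧
      y (f1 a e * b (f1 a e)) ≠ f1 a e * b (f1 a e) := by
  have hya : ∀ v, y (a v) = a (y v) := fun v => by rw [← MulAut.mul_apply, hy, MulAut.mul_apply]
  obtain ⟨f, hf⟩ : ∃ f, f = f1 a e := ⟨_, rfl⟩
  obtain ⟨g, hg⟩ : ∃ g, g = b (f1 a e) := ⟨_, rfl⟩
  rw [← hg, ← hf]
  have af : a f = f := by rw [hf]; exact h.a_f1
  have ag : a g = g := by rw [hg, h.ab', h.a_f1]
  have f_ne : f ≠ 1 := by rw [hf]; exact h.f1_ne
  have g_ne : g ≠ 1 := by rw [hg]; exact fun h1 => h.f1_ne (b.injective (by rw [h1, map_one]))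
  have fg : f ≠ g := by rw [hf, hg]; exact h.bf_ne.symm
  have cases : ∀ v, a v = v → v = 1 ∨ v = f ∨ v = g ∨ v = f * g := by
    intro v hv
    rw [hf, hg]
    rw [← hf]
    have := h.fix hv
    rw [← hf] at this
    exact this
  -- if the square fixes `f` and `g` then `y = 1`
  have key : y (y f) = f → y (y g) = g → False := by
    intro k1 k2
    apply hy1
    have h2 : (y * y) * (y * y) = 1 := by
      refine h.sq_of_fix (y := y * y) ?_ ?_ ?_
      · rw [mul_assoc, hy, ← mul_assoc, hy, mul_assoc]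
      · rw [MulAut.mul_apply, ← hf]; exact k1
      · rw [MulAut.mul_apply, ← hg]; exact k2
    have h3 : y * y = 1 := by
      refine eq_one_of_odd hn ?_ h2
      rw [← pow_two, ← pow_mul, mul_comm, pow_mul, hyn, one_pow]
    exact eq_one_of_odd hn hyn h3
  have yf := cases (y f) (by rw [← hya, af])
  have yg := cases (y g) (by rw [← hya, ag])
  have yf1 : y f ≠ 1 := fun h1 => f_ne (y.injective (by rw [h1, map_one]))
  have yg1 : y g ≠ 1 := fun h1 => g_ne (y.injective (by rw [h1, map_one]))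
  have yfg : y f ≠ y g := fun h1 => fg (y.injective h1)
  have ff := h.sq f
  have gg := h.sq g
  have gf := h.comm g f
  refine ⟨fun h1 => ?_, fun h1 => ?_, fun h1 => ?_⟩
  · rcases yg with h2 | h2 | h2 | h2
    · exact yg1 h2
    · exact yfg (h1.trans h2.symm)
    · exact key (by rw [h1, h1]) (by rw [h2, h2])
    · refine key (by rw [h1, h1]) ?_
      rw [h2, map_mul, h1, h2, ← mul_assoc, ff, one_mul]
  · rcases yf with h2 | h2 | h2 | h2
    · exact yf1 h2
    · exact key (by rw [h2, h2]) (by rw [h1, h1])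
    · exact yfg (h2.trans h1.symm)
    · refine key ?_ (by rw [h1, h1])
      rw [h2, map_mul, h1, h2, mul_assoc, gg, mul_one]
  · rw [map_mul] at h1
    rcases yf with h2 | h2 | h2 | h2
    · exact yf1 h2
    · rw [h2] at h1
      have h3 := mul_left_cancel h1
      exact key (by rw [h2, h2]) (by rw [h3, h3])
    · rw [h2] at h1
      have h3 : y g = f := by
        have : g * y g = g * f := by rw [h1, h.comm]
        exact mul_left_cancel this
      exact key (by rw [h2, h3]) (by rw [h3, h2])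
    · rw [h2] at h1
      have h3 : y g = 1 := by
        have : f * g * y g = f * g * 1 := by rw [h1, mul_one]
        exact mul_left_cancel this
      exact yg1 h3

/-- fixed-point-free -/
theorem Reg.fpf (h : Reg a b e) {y : MulAut V} (hy : y * a = a * y) {n : ℕ} (hn : Odd n) (hyn : y ^ n = 1)
    (hy1 : y ≠ 1) {v : V} (hv : y v = v) : v = 1 := by
  have hya : ∀ v, y (a v) = a (y v) := fun v => by rw [← MulAut.mul_apply, hy, MulAut.mul_apply]
  obtain ⟨m1, m2, m3⟩ := h.move hy hn hyn hy1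
  have key : ∀ v, a v = v → y v = v → v = 1 := by
    intro v hv hyv
    rcases h.fix hv with rfl | rfl | rfl | rfl
    · rfl
    · exact absurd hyv m1
    · exact absurd hyv m2
    · exact absurd hyv m3
  have h1 : v * a v = 1 := key _ (by rw [map_mul, h.aa', h.comm]) (by rw [map_mul, hya, hv])
  have h2 : a v = v := by
    rw [← inv_eq_iff_mul_eq_one, h.inv_eq] at h1
    exact h1.symm
  exact key v h2 hv

theorem YS.pow3 {y : MulAut V} (hy : YS a b y) : y ^ 3 = 1 := by
  rw [pow_succ, pow_two]; exact hy.cube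

theorem Reg.yy (h : Reg a b e) {y : MulAut V} (hy : YS a b y) (v : V) : y (y v) = v * y v := by
  have h3 : y (y (y v)) = v := by
    rw [← MulAut.mul_apply, ← MulAut.mul_apply, hy.cube, MulAut.one_apply]
  have h1 : v * y v * y (y v) = 1 := by
    refine h.fpf hy.comm (n := 3) (by decide) hy.pow3 hy.ne ?_
    rw [map_mul, map_mul, h3, h.comm _ v, ← mul_assoc]
  rw [← inv_eq_iff_mul_eq_one, h.inv_eq] at h1
  exact h1.symm

theorem Reg.yinv (h : Reg a b e) {y : MulAut V} (hy : YS a b y) (v : V) : y⁻¹ v = v * y v := by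
  rw [← h.yy hy, ← MulAut.mul_apply]
  congr 1
  rw [inv_eq_iff_mul_eq_one, ← mul_assoc]
  exact hy.cube

/-- the matrix of an element of order 3 which commutes with `a` -/
theorem Reg.repA (h : Reg a b e) {y : MulAut V} (hy : YS a b y) :
    ∃ x, Rep a b e y (YA x) ∧ app (YA x) x = wadd u0 x := by
  obtain ⟨x, hx⟩ := h.surj (y e)
  have hya : ∀ v, y (a v) = a (y v) := fun v => by rw [← MulAut.mul_apply, hy.comm, MulAut.mul_apply]
  have hyb : ∀ v, y (b v) = b (v * y v) := fun v => by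
    rw [← h.yinv hy, ← hy.inv, MulAut.mul_apply, MulAut.mul_apply, h.bb']
  have he : e * cod a b e x = cod a b e (wadd u0 x) := by rw [h.cod_add, cod_u0]
  have hr : Rep a b e y (YA x) := by
    refine ⟨hx.symm, ?_, ?_, ?_⟩
    · rw [hya, ← hx, h.rep_app h.rep_a]; rfl
    · rw [hyb, ← hx, he, h.rep_app h.rep_b]; rfl
    · rw [hya, hyb, ← hx, he, h.rep_app h.rep_b, h.rep_app h.rep_a]; rfl
  refine ⟨x, hr, h.inj _ _ ?_⟩
  rw [← h.rep_app hr, h.cod_add, cod_u0, hx, h.yy hy]

theorem Reg.repB (h : Reg a b e) {y : MulAut V} (hy : YS b a y) :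
    ∃ x, Rep a b e y (YB x) ∧ app (YB x) x = wadd u0 x := by
  obtain ⟨x, hx⟩ := h.surj (y e)
  have hyb : ∀ v, y (b v) = b (y v) := fun v => by rw [← MulAut.mul_apply, hy.comm, MulAut.mul_apply]
  have hya : ∀ v, y (a v) = a (v * y v) := fun v => by
    rw [← h.swap.yinv hy, ← hy.inv, MulAut.mul_apply, MulAut.mul_apply, h.aa']
  have he : e * cod a b e x = cod a b e (wadd u0 x) := by rw [h.cod_add, cod_u0]
  have hr : Rep a b e y (YB x) := by
    refine ⟨hx.symm, ?_, ?_, ?_⟩
    · rw [hya, ← hx, he, h.rep_app h.rep_a]; rfl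
    · rw [hyb, ← hx, h.rep_app h.rep_b]; rfl
    · rw [h.ab', hyb, hya, ← hx, he, h.rep_app h.rep_a, ← h.rep_app h.rep_a, ← h.ab', h.rep_app h.rep_b,
        h.rep_app h.rep_a]; rfl
  refine ⟨x, hr, h.inj _ _ ?_⟩
  rw [← h.rep_app hr, h.cod_add, cod_u0, hx, h.swap.yy hy]

theorem Reg.repC (h : Reg a b e) {y : MulAut V} (hy : YS (a * b) a y) :
    ∃ x, Rep a b e y (YC x) ∧ app (YC x) x = wadd u0 x := by
  obtain ⟨x, hx⟩ := h.surj (y e)
  have h' : Reg (a * b) a e := h.prod.swap
  have hyc : ∀ v, y (a (b v)) = a (b (y v)) := fun v => by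
    have := congrArg (fun f : MulAut V => f v) hy.comm
    simpa only [MulAut.mul_apply] using this
  have hya : ∀ v, y (a v) = a (v * y v) := fun v => by
    rw [← h'.yinv hy, ← hy.inv, MulAut.mul_apply, MulAut.mul_apply, h.aa']
  have hyb : ∀ v, y (b v) = b (v * y v) := fun v => by
    have h1 : y (a (a (b v))) = a (a (b v) * y (a (b v))) := hya _
    rw [h.aa', hyc, ← map_mul, h.aa', ← map_mul] at h1
    exact h1
  have he : e * cod a b e x = cod a b e (wadd u0 x) := by rw [h.cod_add, cod_u0]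
  have hr : Rep a b e y (YC x) := by
    refine ⟨hx.symm, ?_, ?_, ?_⟩
    · rw [hya, ← hx, he, h.rep_app h.rep_a]; rfl
    · rw [hyb, ← hx, he, h.rep_app h.rep_b]; rfl
    · rw [hyc, ← hx, h.rep_app h.rep_b, h.rep_app h.rep_a]; rfl
  refine ⟨x, hr, h.inj _ _ ?_⟩
  rw [← h.rep_app hr, h.cod_add, cod_u0, hx, h'.yy hy]

/-- two elements of order 3 commute or give an element of order 4 -/
theorem Reg.cd (h : Reg a b e) {y z : MulAut V} (hy : YS a b y) (hz : YS b a z) :
    y * z = z * y ∨ ((a * (y * z)) * (a * (y * z)) * ((a * (y * z)) * (a * (y * z))) = 1 ∧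
      (a * (y * z)) * (a * (y * z)) ≠ 1) := by
  obtain ⟨x, hx, kx⟩ := h.repA hy
  obtain ⟨x', hx', kx'⟩ := h.repB hz
  have hw : Rep a b e (a * (y * z)) (wz (YA x) (YB x')) := h.rep_mul h.rep_a (h.rep_mul hx hx')
  rcases chkAB x x' kx kx' with h1 | ⟨h1, h2⟩
  · left
    refine h.rep_ext (h.rep_mul hx hx') ?_
    rw [h1]
    exact h.rep_mul hx' hx
  · right
    have h3 := h.rep_mul hw hw
    refine ⟨h.rep_ext (h.rep_mul h3 h3) ?_, fun h4 => h2 ?_⟩
    · rw [h1]; exact rep_one
    · rw [h4] at h3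
      exact h.rep_unique h3 rep_one

/-- three of them do not commute -/
theorem Reg.ce (h : Reg a b e) {y z t : MulAut V} (hy : YS a b y) (hz : YS b a z) (ht : YS (a * b) a t)
    (h1 : y * z = z * y) (h2 : y * t = t * y) (h3 : z * t = t * z) : False := by
  obtain ⟨x, hx, kx⟩ := h.repA hy
  obtain ⟨x', hx', kx'⟩ := h.repB hz
  obtain ⟨x'', hx'', kx''⟩ := h.repC ht
  refine chkABC x x' x'' kx kx' kx'' ?_ ?_ ?_
  · refine h.rep_unique (h.rep_mul hx hx') ?_
    rw [h1]; exact h.rep_mul hx' hx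
  · refine h.rep_unique (h.rep_mul hx hx'') ?_
    rw [h2]; exact h.rep_mul hx'' hx
  · refine h.rep_unique (h.rep_mul hx' hx'') ?_
    rw [h3]; exact h.rep_mul hx'' hx'

end Cfsg.Agent.H834.P4
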