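import Cfsg.Agent.H834.P4.TwoF

/-!
# S5210, q = 2: `StTwoB` and `StTwoN` (helper834)

If some `E_α` is essential then `Aut_F(S) = Inn(S)`, and either `F` is constrained (`V` or `A_α = E_α ∩ C(A_α)` is normal)
or `|Aut_F(V)| = 36` and `Q` is essential.
-/

set_option autoImplicit false

namespace Cfsg.Agent.H834.P4

open Cfsg Cfsg.FusionSystem Cfsg.Agent.H776.P4 Cfsg.Agent.H802
open Cfsg.Agent.H756.PU (HypK Ess Inv Com NormAut TIAut AF IsC)
open Cfsg.Agent.H546.PU (isFullyNormalized_of_le isCentric_of_le)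

universe u

variable {K : Type u} [Field K] [StarRing K]

instance : Fact (Nat.Prime 2) := ⟨Nat.prime_two⟩

/-- the situation -/
structure Dat (F : FusionSystem (⊤ : Subgroup (PG K))) (α β : K) (a b : MulAut (PV K)) : Prop where
  k4 : K4 K
  fin : Finite (⊤ : Subgroup (PG K))
  pg : IsPGroup 2 (⊤ : Subgroup (PG K))
  sat : F.IsSaturated 2
  cen : centralizerIn ⊤ (PV K) ≤ PV K
  char : ∀ τ : MulAut (PG K), (PV K).map τ.toMonoidHom = PV K
  hα : α ≠ 0
  hβ : β ≠ 0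
  hne : β ≠ α
  hall : ∀ x : K, x = 0 ∨ x = α ∨ x = β ∨ x = α + β
  ha : IsC (ur α) a
  hb : IsC (ur β) b

section

variable {F : FusionSystem (⊤ : Subgroup (PG K))} {α β : K} {a b : MulAut (PV K)}

theorem Dat.reg (d : Dat F α β a b) : Reg a b (ev : PV K) := reg_of d.k4 d.hα d.hβ d.hne d.hall d.ha d.hb

theorem Dat.hab (d : Dat F α β a b) : IsC (ur (α + β)) (a * b) :=
  isC_congr (show (ur α * ur β).r = (ur (α + β)).r from rfl) (isC_mul d.ha d.hb)

theorem isC_one : IsC (1 : PG K) (1 : MulAut (PV K)) := fun v => by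
  rw [MulAut.one_apply, one_mul, inv_one, mul_one]

theorem Dat.mem (d : Dat F α β a b) {u : MulAut (PV K)} : u ∈ UU d.reg ↔ ∃ x : PG K, IsC x u := by
  rw [mem_UU]
  constructor
  · rintro (h1 | h1 | h1 | h1)
    · exact ⟨1, h1 ▸ isC_one⟩
    · exact ⟨_, h1 ▸ d.ha⟩
    · exact ⟨_, h1 ▸ d.hb⟩
    · exact ⟨_, h1 ▸ d.hab⟩
  · rintro ⟨x, hx⟩
    rcases d.hall x.r with h1 | h1 | h1 | h1
    · exact Or.inl (isC_unique hx (isC_congr (x := 1) h1.symm isC_one))
    · exact Or.inr (Or.inl (isC_unique hx (isC_congr (x := ur α) h1.symm d.ha)))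
    · exact Or.inr (Or.inr (Or.inl (isC_unique hx (isC_congr (x := ur β) h1.symm d.hb))))
    · exact Or.inr (Or.inr (Or.inr (isC_unique hx (isC_congr (x := ur (α + β)) h1.symm d.hab))))

theorem mem_aut {Ω : Type u} [Group Ω] {S : Subgroup Ω} (F : FusionSystem S) {Q : Subgroup Ω} (hQ : Q ≤ S) {x : Ω}
    (hx : x ∈ S) {c : MulAut Q} (hc : IsC x c) : c ∈ F.autGroup Q :=
  autInducedBy_le_autGroup F hQ ((mem_autInducedBy_iff _ _ _).2 ⟨x, hx, hc⟩)

theorem Dat.ghyp (d : Dat F α β a b) : GHyp a b (ev : PV K) (F.autGroup (PV K)) := by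
  have := d.fin
  refine ⟨d.reg, mem_aut F le_top (Subgroup.mem_top _) d.ha, mem_aut F le_top (Subgroup.mem_top _) d.hb,
    fun P hP h2 => ?_⟩
  obtain ⟨g, hg, hgP⟩ := syl_of_fn d.pg d.sat (isFullyNormalized_of_le F le_top normal_PV) P hP h2
  refine ⟨g, hg, fun x hx => ?_⟩
  obtain ⟨z, -, hz⟩ := (mem_autInducedBy_iff _ _ _).1 (hgP x hx)
  exact (mem_UU d.reg).1 (d.mem.2 ⟨z, hz⟩)

theorem Dat.inv (d : Dat F α β a b) (δ : MulAut (⊤ : Subgroup (PG K))) (e : (⊤ : Subgroup (PG K)))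
    (he : (e : PG K) ∈ PV K) : ((δ e : (⊤ : Subgroup (PG K))) : PG K) ∈ PV K := by
  have h1 := d.char (MulAut.congr Subgroup.topEquiv δ)
  have h2 : (MulAut.congr Subgroup.topEquiv δ) (e : PG K) ∈
      (PV K).map (MulAut.congr Subgroup.topEquiv δ).toMonoidHom := ⟨e, he, rfl⟩
  rw [h1] at h2
  exact h2

/-- **`Aut_F(S) = Inn(S)`** -/
theorem Dat.inner (d : Dat F α β a b) (ho : OddC (F.autGroup (PV K)) a) {δ : MulAut (⊤ : Subgroup (PG K))}
    (hδ : δ ∈ F.autGroup ⊤) : ∃ g : PG K, IsC g δ := by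
  have := d.fin
  have hfV : Finite (PV K) := finite_of_le (S := (⊤ : Subgroup (PG K))) le_top
  obtain ⟨y, hyG, hy⟩ := exists_restrict (S := (⊤ : Subgroup (PG K))) le_rfl (le_top : PV K ≤ ⊤) hδ (d.inv δ)
  have hyU : y ∈ UU d.reg := by
    refine d.ghyp.norm ho hyG fun u hu => ?_
    obtain ⟨x, hx⟩ := d.mem.1 hu
    refine d.mem.2 ⟨((δ ⟨x, Subgroup.mem_top x⟩ : (⊤ : Subgroup (PG K))) : PG K), fun v => ?_⟩
    obtain ⟨w, rfl⟩ := y.surjective v
    rw [MulAut.mul_apply, MulAut.mul_apply, MulAut.inv_apply_self, hy, hy]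
    have h3 : (⟨((u w : PV K) : PG K), Subgroup.mem_top _⟩ : (⊤ : Subgroup (PG K))) =
        ⟨x, Subgroup.mem_top x⟩ * ⟨w, Subgroup.mem_top _⟩ * ⟨x, Subgroup.mem_top x⟩⁻¹ := Subtype.ext (hx w)
    rw [h3, map_mul, map_mul, map_inv]
    rfl
  obtain ⟨x, hx⟩ := d.mem.1 hyU
  obtain ⟨c, hc⟩ := exists_conjAut (P := (⊤ : Subgroup (PG K))) (g := x)
    (Subgroup.le_normalizer (Subgroup.mem_top x))
  have hcG : c ∈ F.autGroup ⊤ := mem_aut F le_rfl (Subgroup.mem_top _) hc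
  have hηG : c⁻¹ * δ ∈ F.autGroup ⊤ := Subgroup.mul_mem _ (Subgroup.inv_mem _ hcG) hδ
  have hη : (c⁻¹ * δ) * (c⁻¹ * δ) = 1 := by
    refine sq_of_triv d.k4 d.cen le_top _ fun e he => ?_
    rw [MulAut.mul_apply]
    have h1 : δ e = c e := by
      apply Subtype.ext
      rw [hc]
      have h2 := hy ⟨e, he⟩
      rw [hx] at h2
      exact h2.symm
    rw [h1, MulAut.inv_apply_self]
  have h2 : IsPGroup 2 (Subgroup.zpowers (c⁻¹ * δ)) := by
    rintro ⟨z, k, rfl⟩
    refine ⟨1, Subtype.ext ?_⟩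
    show ((c⁻¹ * δ) ^ k) ^ 2 ^ 1 = 1
    rw [pow_one, ← zpow_natCast, ← zpow_mul, mul_comm, zpow_mul, zpow_natCast, pow_two, hη, one_zpow]
  obtain ⟨g, hg, hgP⟩ := syl_of_fn d.pg d.sat (isFullyNormalized_of_le F le_rfl Subgroup.le_normalizer)
    (Subgroup.zpowers (c⁻¹ * δ)) (by rw [Subgroup.zpowers_le]; exact hηG) h2
  obtain ⟨z, -, hz⟩ := (mem_autInducedBy_iff _ _ _).1 (hgP _ (Subgroup.mem_zpowers _))
  set η := c⁻¹ * δ with hηd
  set z' : (⊤ : Subgroup (PG K)) := ⟨z, Subgroup.mem_top z⟩ with hz'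
  have hz2 : ∀ w, (g * η * g⁻¹) w = z' * w * z'⁻¹ := fun w => Subtype.ext (hz w)
  have hη2 : ∀ v, η v = g⁻¹ z' * v * (g⁻¹ z')⁻¹ := by
    intro v
    have h3 : η v = g⁻¹ ((g * η * g⁻¹) (g v)) := by
      show η v = g⁻¹ (g (η (g⁻¹ (g v))))
      rw [MulAut.inv_apply_self, MulAut.inv_apply_self]
    rw [h3, hz2, map_mul, map_mul, map_inv, MulAut.inv_apply_self]
  refine ⟨x * ((g⁻¹ z' : (⊤ : Subgroup (PG K))) : PG K), fun v => ?_⟩
  have h4 : δ v = c (η v) := by rw [hηd, MulAut.mul_apply, MulAut.apply_inv_self]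
  rw [h4, hc, hη2]
  show x * (((g⁻¹ z' : (⊤ : Subgroup (PG K))) : PG K) * v * (((g⁻¹ z' : (⊤ : Subgroup (PG K))) : PG K))⁻¹) * x⁻¹ = _
  group

theorem Dat.af (d : Dat F α β a b) (ho : OddC (F.autGroup (PV K)) a) :
    AF F = (MulAut.conj : PG K →* MulAut (PG K)).range := by
  apply le_antisymm
  · rintro _ ⟨δ, hδ, rfl⟩
    obtain ⟨g, hg⟩ := d.inner ho hδ
    refine ⟨g, MulEquiv.ext fun x => ?_⟩
    exact (hg ⟨x, Subgroup.mem_top x⟩).symm
  · rintro _ ⟨g, rfl⟩
    obtain ⟨c, hc⟩ := exists_conjAut (P := (⊤ : Subgroup (PG K))) (g := g)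
      (Subgroup.le_normalizer (Subgroup.mem_top g))
    refine ⟨c, mem_aut F le_rfl (Subgroup.mem_top _) hc, MulEquiv.ext fun x => ?_⟩
    exact hc ⟨x, Subgroup.mem_top x⟩

/-- `V` is normal -/
theorem Dat.realV (d : Dat F α β a b)
    (hess : ∀ E, F.IsEssential 2 E → E = PV K ∨ ∃ r : K, r ≠ 0 ∧ E = EA r) : F.IsRealizable 2 := by
  have := d.fin
  refine conNormal F (PV K) d.pg d.sat le_top normal_PV d.cen (fun E hE => ?_) ⟨le_top, fun δ _ e he => d.inv δ e he⟩
  rcases hess E hE with rfl | ⟨r, hr, rfl⟩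
  · exact ⟨le_rfl, fun δ _ e _ => (δ e).2⟩
  · exact ⟨PV_le_EA d.k4 r, fun δ _ e he => EA_inv d.k4 hr δ he⟩

end

/-! ### `A_α` -/

theorem K4.in_add (h : K4 K) {α x y : K} (hx : x = 0 ∨ x = α) (hy : y = 0 ∨ y = α) : x + y = 0 ∨ x + y = α := by
  rcases hx with rfl | rfl
  · rw [zero_add]; exact hy
  · rcases hy with rfl | rfl
    · right; rw [add_zero]
    · left; exact h.two _

/-- elementary abelian of order 8 -/
def AA (h : K4 K) (α : K) : Subgroup (PG K) where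
  carrier := {g | (g.r = 0 ∨ g.r = α) ∧ (g.b = 0 ∨ g.b = α) ∧ g.c = 0}
  one_mem' := ⟨Or.inl rfl, Or.inl rfl, rfl⟩
  mul_mem' := by
    rintro x y ⟨h1, h2, h3⟩ ⟨k1, k2, k3⟩
    refine ⟨?_, ?_, ?_⟩
    · rw [PG.mul_r]; exact h.in_add h1 k1
    · rw [PG.mul_b, k3, mul_zero, add_zero]; exact h.in_add h2 k2
    · rw [PG.mul_c, h3, k3, add_zero]
  inv_mem' := by
    rintro x ⟨h1, h2, h3⟩
    refine ⟨?_, ?_, ?_⟩
    · rw [PG.inv_r, h.neg]; exact h1
    · rw [PG.inv_b, h3, mul_zero, add_zero, h.neg]; exact h2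
    · rw [PG.inv_c, h3, neg_zero]

theorem mem_AA (h : K4 K) {α : K} {g : PG K} :
    g ∈ AA h α ↔ (g.r = 0 ∨ g.r = α) ∧ (g.b = 0 ∨ g.b = α) ∧ g.c = 0 := Iff.rfl

theorem AA_conj (h : K4 K) {α : K} (g : PG K) {x : PG K} (hx : x ∈ AA h α) : g * x * g⁻¹ ∈ AA h α := by
  obtain ⟨h1, h2, h3⟩ := hx
  have er : (g * x * g⁻¹).r = x.r := by
    simp only [PG.mul_r, PG.inv_r]; ring
  have ec : (g * x * g⁻¹).c = 0 := by
    simp only [PG.mul_c, PG.inv_c, h3]; ring
  have eb : (g * x * g⁻¹).b = x.b + x.r * g.c := by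
    simp only [PG.mul_r, PG.mul_b, PG.inv_b, PG.inv_c, h3]
    have e1 := h.two (x.r * g.c)
    linear_combination (-1 : K) * e1
  refine ⟨by rw [er]; exact h1, ?_, ec⟩
  rw [eb]
  refine h.in_add h2 ?_
  rcases h.fix g.hc with h4 | h4
  · left; rw [h4, mul_zero]
  · rw [h4, mul_one]; exact h1

theorem AA_normal (h : K4 K) (α : K) :
    (⊤ : Subgroup (PG K)) ≤ Subgroup.normalizer ((AA h α : Subgroup (PG K)) : Set (PG K)) := by
  intro g _
  rw [Subgroup.mem_normalizer_iff]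
  intro x
  constructor
  · exact AA_conj h g
  · intro hx
    have h1 := AA_conj h g⁻¹ hx
    rwa [show g⁻¹ * (g * x * g⁻¹) * g⁻¹⁻¹ = x by group] at h1

theorem K4.tr_zero (h : K4 K) {x y : K} (hx : x ≠ 0) (hxy : x * star y + star x * y = 0) : y = 0 ∨ y = x := by
  by_contra hcon
  push Not at hcon
  have h1 := h.tr hx hcon.1 hcon.2
  rw [hxy] at h1
  exact zero_ne_one h1

theorem ur_mem_AA (h : K4 K) (α : K) : ur α ∈ AA h α := ⟨Or.inr rfl, Or.inl rfl, rfl⟩

/-- `w_α` -/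
def wr (α : K) : PG K := ⟨0, 0, α, 0, by simp, by simp⟩

theorem AA_cent (h : K4 K) {α : K} (hα : α ≠ 0) : centralizerIn ⊤ (AA h α) ≤ AA h α := by
  rintro x ⟨-, hx'⟩
  have hx := Subgroup.mem_centralizer_iff.1 hx'
  have h1 : ur α * x = x * ur α := hx _ (ur_mem_AA h α)
  have h2 : wr α * x = x * wr α := hx _ ⟨Or.inl rfl, Or.inr rfl, rfl⟩
  have hc : x.c = 0 := by
    have e1 := congrArg (fun z : PG K => z.b) h1
    simp only [PG.mul_b] at e1
    have e2 : (0 : K) + x.b + α * x.c = x.b + 0 + x.r * 0 := e1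
    have e3 : α * x.c = 0 := by linear_combination e2
    exact (mul_eq_zero.1 e3).resolve_left hα
  have hb : α * star x.b + star α * x.b = 0 := by
    have e1 := congrArg (fun z : PG K => z.a) h1
    simp only [PG.mul_a] at e1
    have e2 : (0 : K) + x.a + α * star x.b + star α * x.b + α * star α * x.c =
      x.a + 0 + x.r * star (0 : K) + star x.r * 0 + x.r * star x.r * 0 := e1
    rw [star_zero, hc] at e2
    linear_combination e2
  have hr : α * star x.r + star α * x.r = 0 := by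
    have e1 := congrArg (fun z : PG K => z.a) h2
    simp only [PG.mul_a] at e1
    have e2 : (0 : K) + x.a + 0 * star x.b + star (0 : K) * x.b + 0 * star (0 : K) * x.c =
      x.a + 0 + x.r * star α + star x.r * α + x.r * star x.r * 0 := e1
    rw [star_zero] at e2
    linear_combination (-1 : K) * e2
  exact ⟨h.tr_zero hα hr, h.tr_zero hα hb, hc⟩

theorem AA_char (h : K4 K) (hC : centralizerIn ⊤ (PV K) ≤ PV K) {α : K} (hα : α ≠ 0) {e : PG K} (he : e ∈ EA α) :
    e ∈ AA h α ↔ (e.r ≠ 0 ∧ e * e = 1) ∨ ∀ x ∈ EA α, e * x = x * e := by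
  constructor
  · rintro ⟨h1, h2, h3⟩
    have htr : α * star e.b + star α * e.b = 0 := by
      rcases h2 with h2 | h2
      · rw [h2, star_zero]; ring
      · rw [h2]; exact h.tr0 α
    rcases eq_or_ne e.r 0 with h4 | h4
    · right
      intro x hx
      rcases (mem_EA h).1 hx with h5 | h5
      · exact congrArg (fun v : PV K => (v : PG K)) (PV_comm (⟨e, h4⟩ : PV K) (⟨x, h5⟩ : PV K))
      · obtain ⟨k1, k2, k3, k4⟩ := conj_comp x e h4
        have h6 : x * e * x⁻¹ = e := by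
          ext
          · rw [k1, h4]
          · rw [k2, h3, h5, mul_zero, add_zero, add_assoc, htr, add_zero]
          · rw [k3, h3, mul_zero, add_zero]
          · exact k4
        rw [mul_inv_eq_iff_eq_mul] at h6
        exact h6.symm
    · left
      refine ⟨h4, ?_⟩
      have h5 := h1.resolve_left h4
      ext
      · rw [PG.mul_r, h.two]; rfl
      · rw [PG.mul_a, h.two, h3, h5, mul_zero, add_zero, zero_add, htr]; rfl
      · rw [PG.mul_b, h.two, h3, mul_zero, add_zero]; rfl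
      · rw [PG.mul_c, h.two]; rfl
  · rintro (⟨h1, h2⟩ | h1)
    · have h3 := ((mem_EA h).1 he).resolve_left h1
      have hc : e.c = 0 := by
        have e1 := congrArg (fun z : PG K => z.b) h2
        simp only [PG.mul_b, PG.one_b] at e1
        rw [h.two, zero_add] at e1
        exact (mul_eq_zero.1 e1).resolve_left h1
      have hb : α * star e.b + star α * e.b = 0 := by
        have e1 := congrArg (fun z : PG K => z.a) h2
        simp only [PG.mul_a, PG.one_a] at e1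
        rw [h.two, hc, h3, mul_zero, add_zero, zero_add] at e1
        exact e1
      exact ⟨Or.inr h3, h.tr_zero hα hb, hc⟩
    · have h2 : e ∈ PV K := hC ⟨Subgroup.mem_top _, Subgroup.mem_centralizer_iff.2 fun v hv =>
        (h1 v (PV_le_EA h α hv)).symm⟩
      have h3 := h1 (ur α) ((mem_EA h).2 (Or.inr rfl))
      have h4 : ur α * e * (ur α)⁻¹ = e := by rw [← h3, mul_inv_cancel_right]
      obtain ⟨h5, h6⟩ := comm_V h (x := ur α) hα h2 h4
      exact ⟨Or.inl h2, h6, h5⟩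

theorem AA_EA (h : K4 K) (α : K) : AA h α ≤ EA α := fun _ hg => (mem_EA h).2 hg.1

theorem AA_inv (h : K4 K) (hC : centralizerIn ⊤ (PV K) ≤ PV K) {α : K} (hα : α ≠ 0) (τ : MulAut (EA α)) {e : EA α}
    (he : (e : PG K) ∈ AA h α) : ((τ e : EA α) : PG K) ∈ AA h α := by
  rw [AA_char h hC hα (τ e).2]
  rcases (AA_char h hC hα e.2).1 he with ⟨h1, h2⟩ | h1
  · left
    refine ⟨fun h3 => h1 ?_, ?_⟩
    · have h4 := EA_inv h hα τ⁻¹ (e := τ e) h3
      rw [MulAut.inv_apply_self] at h4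
      exact h4
    · have h4 : e * e = 1 := Subtype.ext h2
      have h5 : τ e * τ e = 1 := by rw [← map_mul, h4, map_one]
      exact congrArg (fun v : EA α => (v : PG K)) h5
  · right
    intro x hx
    obtain ⟨y, hy⟩ := τ.surjective ⟨x, hx⟩
    have h4 : e * y = y * e := Subtype.ext (h1 y y.2)
    have h5 : τ e * ⟨x, hx⟩ = ⟨x, hx⟩ * τ e := by rw [← hy, ← map_mul, h4, map_mul]
    exact congrArg (fun v : EA α => (v : PG K)) h5

/-- the stabilizer of `A_α` in `Aut(Q)` -/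
def stabAA (h : K4 K) (α : K) : Subgroup (MulAut (PQ K)) where
  carrier := {γ | ∀ e : PQ K, ((γ e : PQ K) : PG K) ∈ AA h α ↔ (e : PG K) ∈ AA h α}
  one_mem' := fun _ => Iff.rfl
  mul_mem' := by
    intro x y hx hy e
    rw [MulAut.mul_apply]
    exact (hx (y e)).trans (hy e)
  inv_mem' := by
    intro x hx e
    have h1 := hx (x⁻¹ e)
    rw [MulAut.apply_inv_self] at h1
    exact h1.symm

theorem lamQ_le (h : K4 K) (α : K) : LamQ K ≤ stabAA h α := by
  refine sup_le ?_ ?_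
  · intro γ hγ
    obtain ⟨g, -, hg⟩ := (mem_autInducedBy_iff _ _ _).1 hγ
    intro e
    rw [hg]
    exact ((Subgroup.mem_normalizer_iff.1 (AA_normal h α (Subgroup.mem_top g))) e).symm
  · rw [Subgroup.closure_le]
    rintro γ hγ e
    have h1 : ((γ e : PQ K) : PG K).c = 0 := (γ e).2
    have h2 : (e : PG K).c = 0 := e.2
    rw [mem_AA, mem_AA, hγ.r, hγ.b, h1, h2, h.neg]
    tauto

/-! ### The theorems -/

theorem dat_of (hTI : StTI.{u}) (hGrp : StGrp.{u}) {n : ℕ} (h : HypK K 2 n) (hk : K4 K)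
    {F : FusionSystem (⊤ : Subgroup (PG K))} (hF : F.IsSaturated 2) {α : K} (hα : α ≠ 0) :
    ∃ (β : K) (a b : MulAut (PV K)), Dat F α β a b := by
  obtain ⟨hcard, hpg, -⟩ := hGrp h
  have hfin : Finite (PG K) := Nat.finite_of_card_ne_zero (by rw [hcard]; positivity)
  obtain ⟨β, a, b, hβ, hne, hall, ha, hb⟩ := exists_pair hk hα
  obtain ⟨hcen, -, hchar⟩ := (hTI h).2 (PV K) (Or.inl rfl)
  exact ⟨β, a, b, ⟨hk, inferInstance, hpg, hF, hcen, hchar, hα, hβ, hne, hall, ha, hb⟩⟩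

/-- **(2B)** -/
theorem stTwoB (hE : StTwoE.{u}) (hTI : StTI.{u}) (hPar : StPar.{u}) (hQ2 : StQTwo.{u}) (hGrp : StGrp.{u}) :
    StTwoB.{u} := by
  intro K _ _ p n _ h hq F hF α hα hess
  obtain ⟨rfl, hk⟩ := k4_of h hq
  obtain ⟨β, a, b, d⟩ := dat_of hTI hGrp h hk hF hα
  have := d.fin
  have hEss : ∀ E, F.IsEssential 2 E → Ess ⊤ E 2 (F.autGroup E) := fun E hE =>
    Cfsg.Agent.H245.PU.stEss F E d.pg hF hE
  have hodd : ∀ r : K, r ≠ 0 → ∀ u : MulAut (PV K), IsC (ur r) u → F.IsEssential 2 (EA r) →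
      OddC (F.autGroup (PV K)) u := fun r hr u hu he => oddC_of_ess hk hr d.cen (hEss _ he) hu
  have ho := hodd α hα a d.ha hess
  have haf := d.af ho
  have hg := d.ghyp
  have hr := d.reg
  have hne : α + β ≠ 0 := fun h3 => d.hne (by
    have h4 : α + β = α + α := by rw [h3, hk.two]
    exact add_left_cancel h4)
  by_cases h1 : OddC (F.autGroup (PV K)) b ∨ OddC (F.autGroup (PV K)) (a * b)
  · -- two classes
    have hcard : Nat.card (F.autGroup (PV K)) = 36 := by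
      rcases h1 with h1 | h1
      · exact hg.card36 ho h1
      · exact hg.prod.card36 ho h1
    by_cases h2 : ∀ γ ∈ F.autGroup (PQ K), NormAut (⊤ : Subgroup (PG K)) γ
    · left
      refine d.realV fun E hE' => ?_
      rcases hE h hq F hF E hE' with h3 | h3 | ⟨r, hr0, h3⟩
      · exact Or.inl h3
      · subst h3
        exact absurd h2 (ess_not_norm (hEss _ hE'))
      · exact Or.inr ⟨r, hr0, h3⟩
    · exact Or.inr ⟨hcard, haf, h2⟩
  · -- one class
    left
    push Not at h1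
    have hcen := hg.central ho h1.1 h1.2
    refine conNormal F (AA hk α) d.pg hF le_top (AA_normal hk α) (AA_cent hk hα) (fun E hE' => ?_)
      ⟨le_top, fun δ hδ e he => ?_⟩
    · rcases hE h hq F hF E hE' with h3 | h3 | ⟨r, hr0, h3⟩
      · -- `V` is not essential
        exfalso
        subst h3
        have h4 : a ∈ autInducedBy ⊤ (PV K) :=
          (mem_autInducedBy_iff _ _ _).2 ⟨ur α, Subgroup.mem_top _, d.ha⟩
        have h5 := ess_inn (hEss _ hE') h4 fun g hg' => by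
          rw [hcen g hg', mul_inv_cancel_right]; exact h4
        obtain ⟨v, hv⟩ := h5
        apply hr.a_ne
        rw [← hv]
        ext w : 1
        rw [MulAut.conj_apply, PV_comm v w, mul_inv_cancel_right, MulAut.one_apply]
      · -- `Q`
        subst h3
        have hQE := hEss _ hE'
        have hti := (hTI h).1 (F.autGroup (PQ K)) hQE.indu hQE.syl
        have hpar := hPar h F ⊥ (PQ K) hF (Or.inr rfl) bot_le (by rw [Subgroup.card_bot]; exact Nat.coprime_one_left 2)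
          (by rw [haf, sup_bot_eq]) hti (ess_not_norm hQE)
        have hld := hQ2 h hq _ _ hpar
        refine ⟨fun x hx => hx.2.2, fun γ hγ e he => ?_⟩
        obtain ⟨l, hl, d', hd', δ, hδ, rfl⟩ := (hld γ).1 hγ
        rw [Subgroup.mem_bot] at hd'
        have hδ1 : δ = 1 := by
          ext e : 1
          apply Subtype.ext
          rw [hδ e, hd']
          rfl
        rw [hδ1, mul_one]
        exact (lamQ_le hk α hl e).2 he
      · -- `E_r`
        subst h3
        have h4 := hodd r hr0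
        rcases d.hall r with h5 | h5 | h5 | h5
        · exact absurd h5 hr0
        · subst h5
          exact ⟨AA_EA hk r, fun δ _ e he => AA_inv hk d.cen hr0 δ he⟩
        · subst h5
          exact absurd (h4 b d.hb hE') h1.1
        · subst h5
          exact absurd (h4 (a * b) d.hab hE') h1.2
    · obtain ⟨g, hg'⟩ := d.inner ho hδ
      rw [hg' e]
      exact AA_conj hk g he

/-- **(2N)** -/
theorem stTwoN (hTI : StTI.{u}) (hGrp : StGrp.{u}) : StTwoN.{u} := by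
  intro K _ _ p n _ h hq F D hF hD hcop htor haf α hα hess
  obtain ⟨rfl, hk⟩ := k4_of h hq
  obtain ⟨β, a, b, d⟩ := dat_of hTI hGrp h hk hF hα
  have := d.fin
  have ho := oddC_of_ess hk hα d.cen (Cfsg.Agent.H245.PU.stEss F _ d.pg hF hess) d.ha
  have haf' := d.af ho
  -- an element of `K` different from `0` and `1`
  obtain ⟨t, ht0, ht1, -⟩ := hk.basis 1 one_ne_zero
  obtain ⟨τ, hτ⟩ := (hGrp h).2.2.1 (t ^ 2) ((t * star t)⁻¹) (RingEquiv.refl K) (pow_ne_zero 2 ht0)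
    (inv_ne_zero (by rw [hk.nrm ht0]; exact one_ne_zero)) (by rw [hk.nrm ht0, inv_one, star_one])
  have h1 : τ ∈ AF F := by
    rw [haf]
    exact (le_sup_right : D ≤ _) (htor t ht0 τ hτ)
  rw [haf'] at h1
  obtain ⟨g, rfl⟩ := h1
  have h2 := hτ.r (ur 1)
  have h3 : ((MulAut.conj g : MulAut (PG K)) (ur 1)).r = 1 := by
    show (g * ur 1 * g⁻¹).r = 1
    simp only [PG.mul_r, PG.inv_r]
    show g.r + 1 + - g.r = 1
    ring
  have h4 : (t ^ 2 : K) * (RingEquiv.refl K) (ur (1 : K)).r = t ^ 2 := mul_one _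
  rw [h4] at h2
  have h5 : t ^ 2 = 1 := h2.symm.trans h3
  apply ht1
  have h6 := hk.cube t ht0
  rw [← pow_two, h5, one_mul] at h6
  exact h6

end Cfsg.Agent.H834.P4
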