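import Cfsg.Agent.H834.P4.TwoK
import Cfsg.Agent.H776.P4.Stmts2
import Cfsg.Agent.H245.PU.Ess
import Cfsg.Agent.H546.PU.Constr

/-!
# S5210, q = 2: the fusion part (helper834)
-/

set_option autoImplicit false

namespace Cfsg.Agent.H834.P4

open Cfsg Cfsg.FusionSystem Cfsg.Agent.H776.P4 Cfsg.Agent.H802
open Cfsg.Agent.H756.PU (HypK Ess Inv Com NormAut TIAut AF IsC)
open Cfsg.Agent.H546.PU (isFullyNormalized_of_le isCentric_of_le)

universe u

/-! ### Generalities -/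

section general

variable {Ω : Type u} [Group Ω] {S : Subgroup Ω}

/-- the Sylow property of `Aut_S(Q)` for a fully normalized `Q` -/
theorem syl_of_fn [Finite S] {p : ℕ} [Fact p.Prime] {F : FusionSystem S} (hS : IsPGroup p S) (hF : F.IsSaturated p)
    {Q : Subgroup Ω} (hQ : F.IsFullyNormalized Q) :
    ∀ P : Subgroup (MulAut Q), P ≤ F.autGroup Q → IsPGroup p P →
      ∃ g ∈ F.autGroup Q, ∀ x ∈ P, g * x * g⁻¹ ∈ autInducedBy S Q := by
  have hfinQ : Finite Q := finite_of_le hQ.1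
  have hfA : Finite (MulAut Q) := inferInstance
  set A := F.autGroup Q with hA
  obtain ⟨R, hR⟩ : ∃ R : Sylow p A, (R : Subgroup A) = (autInducedBy S Q).subgroupOf A :=
    (isFullyAutomized_of_isFullyNormalized hS hF hQ).2
  intro P hP hPp
  have hP' : IsPGroup p (P.subgroupOf A) := hPp.comap_of_injective A.subtype A.subtype_injective
  obtain ⟨T, hT⟩ := hP'.exists_le_sylow
  obtain ⟨g, hg⟩ := MulAction.exists_smul_eq A T R
  refine ⟨g, g.2, fun x hx => ?_⟩
  have h1 : g * (⟨x, hP hx⟩ : A) * g⁻¹ ∈ (R : Subgroup A) := by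
    rw [← hg, Sylow.coe_subgroup_smul]
    exact ⟨⟨x, hP hx⟩, hT hx, rfl⟩
  rw [hR] at h1
  exact h1

/-- a normal centric subgroup makes the system realizable -/
theorem conNormal [Finite S] {p : ℕ} [Fact p.Prime] (F : FusionSystem S) (Q : Subgroup Ω) (hS : IsPGroup p S)
    (hF : F.IsSaturated p) (hQS : Q ≤ S) (hN : S ≤ Subgroup.normalizer (Q : Set Ω)) (hC : centralizerIn S Q ≤ Q)
    (hess : ∀ E, F.IsEssential p E → Inv (F.autGroup E) Q) (hinv : Inv (F.autGroup S) Q) : F.IsRealizable p := by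
  have hcen := isCentric_of_le hS hF hQS hN hC
  have hnor : F.IsNormal Q := by
    rw [Cfsg.Agent.H973.isNormal_iff_essential hS hF Q]
    have key : ∀ P : Subgroup Ω, P ≤ S → Inv (F.autGroup P) Q →
        (Q ≤ P ∧ ∀ α ∈ F.autGroup P, (Q.subgroupOf P).map α.toMonoidHom = Q.subgroupOf P) := by
      intro P hPS hi
      refine ⟨hi.1, fun α hα => ?_⟩
      have hfin : Finite P := finite_of_le hPS
      refine Subgroup.eq_of_le_of_card_ge ?_ ?_
      · rintro _ ⟨x, hx, rfl⟩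
        exact Subgroup.mem_subgroupOf.2 (hi.2 α hα x (Subgroup.mem_subgroupOf.1 hx))
      · exact (Subgroup.card_map_of_injective α.injective).ge
    rintro P (rfl | hP)
    · exact key _ le_rfl hinv
    · exact key P hP.1.1 (hess P hP)
  obtain ⟨L, hL, ι, ⟨hfin, hreal, hsyl, -⟩, -, -⟩ :=
    Cfsg.Agent.H771.exists_model hS hF hnor hcen
  exact ⟨L, hL, hfin, ι, hreal, hsyl⟩

variable {E : Subgroup Ω} {p : ℕ} {Γ : Subgroup (MulAut E)}

theorem ess_inn (h : Ess S E p Γ) {x : MulAut E} (hx : x ∈ autInducedBy S E)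
    (hc : ∀ g ∈ Γ, g * x * g⁻¹ ∈ autInducedBy S E) : x ∈ Inn E := by
  obtain ⟨H, hHG, hne, hAH, -, hsp⟩ := h.spe
  obtain ⟨g, hg, hgH⟩ : ∃ g ∈ Γ, g ∉ H := by
    by_contra hcon
    push Not at hcon
    exact hne (le_antisymm hHG hcon)
  refine hsp g hg hgH x (hAH hx) (hAH (hc g hg)) ?_
  obtain ⟨k, hk⟩ := isPGroup_autInducedBy h.pgr E ⟨x, hx⟩
  exact ⟨k, congrArg Subtype.val hk⟩

theorem ess_not_norm (h : Ess S E p Γ) : ¬ ∀ γ ∈ Γ, NormAut S γ := by
  intro hn
  obtain ⟨H, hHG, hne, hAH, hAI, hsp⟩ := h.spe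
  exact hAI fun x hx => ess_inn h hx fun g hg => hn g hg x hx

theorem ess_exists_odd (h : Ess S E 2 Γ) : ∃ δ ∈ Γ, δ ≠ 1 ∧ ∃ n : ℕ, Odd n ∧ δ ^ n = 1 := by
  have := h.fin
  have hfE : Finite E := finite_of_le h.E_le
  have hfM : Finite (MulAut E) := inferInstance
  by_contra hcon
  push Not at hcon
  have h2 : IsPGroup 2 Γ := by
    rintro ⟨γ, hγ⟩
    obtain ⟨k, m, hm, hkm⟩ := Nat.exists_eq_two_pow_mul_odd (n := orderOf γ) (orderOf_pos γ).ne'
    refine ⟨k, Subtype.ext ?_⟩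
    show γ ^ 2 ^ k = 1
    by_contra hne
    refine hcon (γ ^ 2 ^ k) (Γ.pow_mem hγ _) hne m hm ?_
    rw [← pow_mul, ← hkm, pow_orderOf_eq_one]
  obtain ⟨g, hg, hgP⟩ := h.syl Γ le_rfl h2
  obtain ⟨H, hHG, hne, hAH, -, -⟩ := h.spe
  refine hne (le_antisymm hHG fun x hx => hAH ?_)
  have h3 := hgP (g⁻¹ * x * g) (Γ.mul_mem (Γ.mul_mem (Γ.inv_mem hg) hx) hg)
  rwa [show g * (g⁻¹ * x * g) * g⁻¹ = x by group] at h3

/-- restriction to an invariant subgroup -/
theorem exists_restrict {F : FusionSystem S} {P R : Subgroup Ω} (hP : P ≤ S) (hR : R ≤ P) [Finite R] {α : MulAut P}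
    (hα : α ∈ F.autGroup P) (hinv : ∀ e : P, (e : Ω) ∈ R → ((α e : P) : Ω) ∈ R) :
    ∃ y ∈ F.autGroup R, ∀ v : R, ((y v : R) : Ω) = ((α ⟨v, hR v.2⟩ : P) : Ω) := by
  have h1 : P.subtype.comp (α.toMonoidHom.comp (Subgroup.inclusion hR)) ∈ F.Hom R :=
    aut_restrict_mem hP hα hR fun x hx => rfl
  exact exists_aut h1 (range_eq_of_mapsTo h1 fun x => hinv _ x.2)

theorem restrict_pow {P R : Subgroup Ω} (hR : R ≤ P) {α : MulAut P} {y : MulAut R}
    (hy : ∀ v : R, ((y v : R) : Ω) = ((α ⟨v, hR v.2⟩ : P) : Ω)) (n : ℕ) :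
    ∀ v : R, (((y ^ n) v : R) : Ω) = (((α ^ n) ⟨v, hR v.2⟩ : P) : Ω) := by
  induction n with
  | zero => intro v; rfl
  | succ n ih =>
    intro v
    rw [pow_succ, pow_succ, MulAut.mul_apply, MulAut.mul_apply, ih]
    have : (⟨(y v : R), hR (y v).2⟩ : P) = α ⟨v, hR v.2⟩ := Subtype.ext (hy v)
    rw [this]

end general

/-! ### `V` and `E_r` -/

section

variable {K : Type u} [Field K] [StarRing K]

theorem K4.neg (h : K4 K) (x : K) : -x = x := neg_eq_of_add_eq_zero_left (h.two x)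

theorem mem_PV {g : PG K} : g ∈ PV K ↔ g.r = 0 := Iff.rfl

theorem mem_EA (h : K4 K) {r : K} {g : PG K} : g ∈ EA r ↔ g.r = 0 ∨ g.r = r := by
  constructor
  · intro hg
    refine Subgroup.closure_induction (p := fun (g : PG K) _ => g.r = 0 ∨ g.r = r) (fun x hx => hx) (Or.inl rfl) ?_ ?_ hg
    · rintro x y _ _ (hx | hx) (hy | hy)
      · left; rw [PG.mul_r, hx, hy, add_zero]
      · right; rw [PG.mul_r, hx, hy, zero_add]
      · right; rw [PG.mul_r, hx, hy, add_zero]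
      · left; rw [PG.mul_r, hx, hy, h.two]
    · rintro x _ (hx | hx)
      · left; rw [PG.inv_r, hx, neg_zero]
      · right; rw [PG.inv_r, hx, h.neg]
  · intro hg
    exact Subgroup.subset_closure hg

theorem PV_le_EA (h : K4 K) (r : K) : PV K ≤ EA r := fun _ hg => (mem_EA h).2 (Or.inl hg)

theorem comm_V (h : K4 K) {x w : PG K} (hx : x.r ≠ 0) (hw : w.r = 0) (hc : x * w * x⁻¹ = w) :
    w.c = 0 ∧ (w.b = 0 ∨ w.b = x.r) := by
  obtain ⟨-, h1, h2, -⟩ := conj_comp x w hw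
  rw [hc] at h1 h2
  have hc0 : w.c = 0 := by
    have h3 : x.r * w.c = 0 := by
      have h4 : w.b + 0 = w.b + x.r * w.c := by rw [add_zero]; exact h2
      exact (add_left_cancel h4).symm
    exact (mul_eq_zero.1 h3).resolve_left hx
  refine ⟨hc0, ?_⟩
  by_contra hcon
  push Not at hcon
  have h5 := h.tr hx hcon.1 hcon.2
  rw [hc0, mul_zero, add_zero, add_assoc, h5] at h1
  have h6 : w.a + 0 = w.a + 1 := by rw [add_zero]; exact h1
  exact zero_ne_one (add_left_cancel h6)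

theorem isC_congr {x y : PG K} (hxy : x.r = y.r) {a : MulAut (PV K)} (ha : IsC x a) : IsC y a := by
  intro v
  rw [ha v]
  obtain ⟨h1, h2, h3, h4⟩ := conj_comp x (v : PG K) v.2
  obtain ⟨k1, k2, k3, k4⟩ := conj_comp y (v : PG K) v.2
  ext
  · rw [h1, k1]
  · rw [h2, k2, hxy]
  · rw [h3, k3, hxy]
  · rw [h4, k4]

theorem isC_unique {x : PG K} {a b : MulAut (PV K)} (ha : IsC x a) (hb : IsC x b) : a = b := by
  ext v : 1
  apply Subtype.ext
  rw [ha v, hb v]

theorem isC_mul {x y : PG K} {a b : MulAut (PV K)} (ha : IsC x a) (hb : IsC y b) : IsC (x * y) (a * b) := by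
  intro v
  rw [MulAut.mul_apply, ha, hb]
  group

/-- four-element bound -/
theorem exists_pair (h : K4 K) {α : K} (hα : α ≠ 0) : ∃ (β : K) (a b : MulAut (PV K)), β ≠ 0 ∧ β ≠ α ∧
    (∀ x : K, x = 0 ∨ x = α ∨ x = β ∨ x = α + β) ∧ IsC (ur α) a ∧ IsC (ur β) b := by
  obtain ⟨β, hβ, hne, hall⟩ := h.basis α hα
  obtain ⟨a, ha⟩ := exists_conjAut (normal_PV (Subgroup.mem_top (ur α)))
  obtain ⟨b, hb⟩ := exists_conjAut (normal_PV (Subgroup.mem_top (ur β)))
  exact ⟨β, a, b, hβ, hne, hall, ha, hb⟩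

/-- `V` is invariant under all the automorphisms of `E_r` -/
theorem EA_inv (h : K4 K) {r : K} (hr : r ≠ 0) (τ : MulAut (EA r)) {e : EA r} (he : (e : PG K) ∈ PV K) :
    ((τ e : EA r) : PG K) ∈ PV K := by
  have he : (e : PG K).r = 0 := he
  show ((τ e : EA r) : PG K).r = 0
  by_contra hne
  have hex : ((τ e : EA r) : PG K).r = r := ((mem_EA h).1 (τ e).2).resolve_left hne
  have key0 : ∀ w : EA r, (w : PG K).r = 0 → ((τ w : EA r) : PG K).r = 0 →
      ((τ w : EA r) : PG K).c = 0 ∧ (((τ w : EA r) : PG K).b = 0 ∨ ((τ w : EA r) : PG K).b = r) := by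
    intro w hw hτw
    have hcomm : e * w = w * e := by
      have h0 := PV_comm (⟨(e : PG K), he⟩ : PV K) (⟨(w : PG K), hw⟩ : PV K)
      have h00 : (e : PG K) * w = w * e := congrArg (fun v : PV K => (v : PG K)) h0
      exact Subtype.ext h00
    have h1 : τ e * τ w * (τ e)⁻¹ = τ w := by rw [← map_mul, hcomm, map_mul, mul_inv_cancel_right]
    have h2 := comm_V h (x := ((τ e : EA r) : PG K)) (w := ((τ w : EA r) : PG K)) (by rw [hex]; exact hr) hτw
      (congrArg Subtype.val h1)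
    rwa [hex] at h2
  -- the list of eight elements
  let f : Bool × Bool × Bool → PG K := fun t =>
    ⟨0, kap K t.2.1, if t.2.2 then r else 0, 0, by cases t.2.1 <;> simp [kap], by simp⟩ *
      (if t.1 then ((τ e : EA r) : PG K) else 1)
  have key1 : ∀ w : EA r, (w : PG K).r = 0 → ((τ w : EA r) : PG K).r = 0 →
      ∃ s t : Bool, ((τ w : EA r) : PG K) = f (false, s, t) ∧
        ((τ w : EA r) : PG K) * ((τ e : EA r) : PG K) = f (true, s, t) := by
    intro w hw hτw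
    obtain ⟨h1, h2⟩ := key0 w hw hτw
    obtain ⟨s, hs⟩ := exists_kap h ((τ w : EA r) : PG K).ha
    obtain ⟨t, ht⟩ : ∃ t : Bool, ((τ w : EA r) : PG K).b = if t then r else 0 := by
      rcases h2 with h2 | h2
      · exact ⟨false, by rw [h2]; rfl⟩
      · exact ⟨true, by rw [h2]; rfl⟩
    have h3 : ((τ w : EA r) : PG K) =
        ⟨0, kap K s, if t then r else 0, 0, by cases s <;> simp [kap], by simp⟩ := by
      ext
      · exact hτw
      · exact hs
      · exact ht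
      · exact h1
    refine ⟨s, t, ?_, ?_⟩
    · show _ = _ * 1
      rw [mul_one]
      exact h3
    · show _ = _ * _
      exact congrArg (fun z : PG K => z * ((τ e : EA r) : PG K)) h3
  have key2 : ∀ w : EA r, (w : PG K).r = 0 → ∃ t, ((τ w : EA r) : PG K) = f t := by
    intro w hw
    rcases (mem_EA h).1 (τ w).2 with h1 | h1
    · obtain ⟨s, t, h2, -⟩ := key1 w hw h1
      exact ⟨_, h2⟩
    · have h2 : ((w * e⁻¹ : EA r) : PG K).r = 0 := by
        show (w : PG K).r + (- (e : PG K).r) = 0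
        rw [hw, he, neg_zero, add_zero]
      have h3 : ((τ (w * e⁻¹) : EA r) : PG K).r = 0 := by
        rw [map_mul, map_inv]
        show ((τ w : EA r) : PG K).r + (- ((τ e : EA r) : PG K).r) = 0
        rw [h1, hex, add_neg_cancel]
      obtain ⟨s, t, -, h4⟩ := key1 _ h2 h3
      refine ⟨_, Eq.trans ?_ h4⟩
      rw [map_mul, map_inv]
      show _ = ((τ w : EA r) : PG K) * (((τ e : EA r) : PG K))⁻¹ * _
      rw [inv_mul_cancel_right]
  obtain ⟨β, a, b, hβ, hne', hall, ha, hb⟩ := exists_pair h hr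
  have hreg := reg_of h hr hβ hne' hall ha hb
  choose! g hg using fun x : W => key2 ⟨((cod a b (ev : PV K) x : PV K) : PG K), PV_le_EA h r (cod a b (ev : PV K) x).2⟩
    (cod a b (ev : PV K) x).2
  have hinj : Function.Injective g := by
    intro x y hxy
    apply hreg.inj
    have h1 : ((τ ⟨((cod a b (ev : PV K) x : PV K) : PG K), PV_le_EA h r (cod a b (ev : PV K) x).2⟩ : EA r) : PG K) =
        ((τ ⟨((cod a b (ev : PV K) y : PV K) : PG K), PV_le_EA h r (cod a b (ev : PV K) y).2⟩ : EA r) : PG K) := by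
      rw [hg x, hg y, hxy]
    have h2 := τ.injective (Subtype.ext h1)
    exact Subtype.ext (congrArg (fun v : EA r => (v : PG K)) h2)
  have h3 := Fintype.card_le_of_injective g hinj
  revert h3
  decide

/-- an automorphism trivial on `V` is an involution -/
theorem sq_of_triv (h : K4 K) (hC : centralizerIn ⊤ (PV K) ≤ PV K) {E : Subgroup (PG K)} (hVE : PV K ≤ E)
    (α : MulAut E) (hα : ∀ e : E, (e : PG K) ∈ PV K → α e = e) : α * α = 1 := by
  ext e : 1
  rw [MulAut.mul_apply, MulAut.one_apply]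
  have hz : ((e⁻¹ * α e : E) : PG K) ∈ PV K := by
    apply hC
    refine ⟨Subgroup.mem_top _, Subgroup.mem_centralizer_iff.2 fun v hv => ?_⟩
    let w : E := ⟨v, hVE hv⟩
    have h1 : ((e * w * e⁻¹ : E) : PG K) ∈ PV K :=
      (Subgroup.mem_normalizer_iff.1 (normal_PV (Subgroup.mem_top (e : PG K))) v).1 hv
    have h2 := hα _ h1
    rw [map_mul, map_mul, map_inv, hα w hv] at h2
    have h3 : w * (e⁻¹ * α e) = (e⁻¹ * α e) * w := by
      calc w * (e⁻¹ * α e) = e⁻¹ * (e * w * e⁻¹) * α e := by group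
        _ = e⁻¹ * (α e * w * (α e)⁻¹) * α e := by rw [h2]
        _ = _ := by group
    exact congrArg Subtype.val h3
  have h4 : e * (e⁻¹ * α e) = α e := by group
  have h5 : (e⁻¹ * α e) * (e⁻¹ * α e) = 1 := by
    have h6 : ((e⁻¹ * α e : E) : PG K) * ((e⁻¹ * α e : E) : PG K) = 1 :=
      congrArg (fun v : PV K => (v : PG K)) (PV_sq h (⟨_, hz⟩ : PV K))
    exact Subtype.ext h6
  calc α (α e) = α (e * (e⁻¹ * α e)) := by rw [h4]
    _ = α e * (e⁻¹ * α e) := by rw [map_mul, hα _ hz]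
    _ = e * (e⁻¹ * α e) * (e⁻¹ * α e) := by rw [h4]
    _ = e := by rw [mul_assoc, h5, mul_one]

theorem eq_one_of_sq {G : Type*} [Group G] {x : G} (h : x * x = 1) {n : ℕ} (hn : Odd n) (hx : x ^ n = 1) : x = 1 := by
  obtain ⟨m, rfl⟩ := hn
  rwa [pow_succ, pow_mul, pow_two, h, one_pow, one_mul] at hx

/-- an essential `E_r` gives an element of odd order in `C_G(u_r)` -/
theorem oddC_of_ess (h : K4 K) {r : K} (hr : r ≠ 0) {F : FusionSystem (⊤ : Subgroup (PG K))}
    (hC : centralizerIn ⊤ (PV K) ≤ PV K) (hE : Ess ⊤ (EA r) 2 (F.autGroup (EA r))) {a : MulAut (PV K)}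
    (ha : IsC (ur r) a) : OddC (F.autGroup (PV K)) a := by
  have := hE.fin
  have hfV : Finite (PV K) := finite_of_le (S := (⊤ : Subgroup (PG K))) le_top
  obtain ⟨δ, hδ, hδ1, n, hn, hδn⟩ := ess_exists_odd hE
  obtain ⟨y, hyG, hy⟩ := exists_restrict (S := (⊤ : Subgroup (PG K))) le_top (PV_le_EA h r) hδ
    fun e he => EA_inv h hr δ he
  refine ⟨y, hyG, ?_, ?_, n, hn, ?_⟩
  · have hur : ur r ∈ EA r := (mem_EA h).2 (Or.inr rfl)
    have hx : ((δ ⟨ur r, hur⟩ : EA r) : PG K).r = r := by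
      refine ((mem_EA h).1 (δ ⟨ur r, hur⟩).2).resolve_left fun h1 => hr ?_
      have h2 := EA_inv h hr δ⁻¹ (e := δ ⟨ur r, hur⟩) h1
      rw [MulAut.inv_apply_self] at h2
      exact h2
    have hax : IsC ((δ ⟨ur r, hur⟩ : EA r) : PG K) a := isC_congr hx.symm ha
    ext v : 1
    apply Subtype.ext
    rw [MulAut.mul_apply, MulAut.mul_apply, hax, hy, hy]
    have h3 : (⟨((a v : PV K) : PG K), PV_le_EA h r (a v).2⟩ : EA r) =
        ⟨ur r, hur⟩ * ⟨v, PV_le_EA h r v.2⟩ * ⟨ur r, hur⟩⁻¹ := Subtype.ext (ha v)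
    rw [h3, map_mul, map_mul, map_inv]
    rfl
  · intro hy1
    apply hδ1
    refine eq_one_of_sq (sq_of_triv h hC (PV_le_EA h r) δ fun e he => ?_) hn hδn
    have h1 := hy ⟨e, he⟩
    rw [hy1, MulAut.one_apply] at h1
    exact Subtype.ext h1.symm
  · ext v : 1
    apply Subtype.ext
    rw [restrict_pow (PV_le_EA h r) hy, hδn]
    rfl

end

end Cfsg.Agent.H834.P4
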