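import Cfsg.Agent.H834.P4.RegB
import Cfsg.Agent.H776.P4.Stmts

/-!
# S5210, q = 2: the group `PG K`, `|K| = 4` (helper834)
-/

set_option autoImplicit false

namespace Cfsg.Agent.H834.P4

open Cfsg Cfsg.FusionSystem Cfsg.Agent.H776.P4
open Cfsg.Agent.H756.PU (HypK Ess Inv Com NormAut TIAut AF IsC)

universe u

variable {K : Type u} [Field K] [StarRing K]

/-- the field with four elements -/
structure K4 (K : Type u) [Field K] [StarRing K] : Prop where
  two : ∀ x : K, x + x = 0
  st : ∀ x : K, star x = x * x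
  cube : ∀ x : K, x ≠ 0 → x * x * x = 1
  basis : ∀ α : K, α ≠ 0 → ∃ β : K, β ≠ 0 ∧ β ≠ α ∧ ∀ x : K, x = 0 ∨ x = α ∨ x = β ∨ x = α + β

theorem k4_of {p n : ℕ} (h : HypK K p n) (hq : p ^ n = 2) : p = 2 ∧ K4 K := by
  classical
  have hp2 : p = 2 := by
    have h1 : p ∣ 2 := by
      rw [← hq]
      exact dvd_pow_self p (by have := h.hn; omega)
    exact (Nat.prime_dvd_prime_iff_eq h.pp Nat.prime_two).1 h1
  have hfin := h.fin
  have := Fintype.ofFinite K
  have hcard : Fintype.card K = 4 := by rw [← Nat.card_eq_fintype_card, h.card, hq]; norm_num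
  have hch := h.char
  rw [hp2] at hch
  have h2 : ∀ x : K, x + x = 0 := fun x => CharTwo.add_self_eq_zero x
  refine ⟨hp2, h2, fun x => ?_, fun x hx => ?_, fun α hα => ?_⟩
  · rw [h.star_eq, hq, pow_two]
  · have h3 := FiniteField.pow_card_sub_one_eq_one x hx
    rw [hcard] at h3
    rw [← h3]
    ring
  · obtain ⟨β, hβ⟩ : ∃ β : K, β ∉ ({0, α} : Finset K) := by
      by_contra hcon
      push Not at hcon
      have h3 : Fintype.card K ≤ ({0, α} : Finset K).card := by
        rw [← Finset.card_univ]
        exact Finset.card_le_card fun x _ => hcon x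
      have h4 := Finset.card_le_two (a := (0 : K)) (b := α)
      omega
    simp only [Finset.mem_insert, Finset.mem_singleton, not_or] at hβ
    refine ⟨β, hβ.1, hβ.2, ?_⟩
    have hne1 : α + β ≠ 0 := fun h3 => hβ.2 (by
      have h4 : α + β = α + α := by rw [h3, h2]
      exact add_left_cancel h4)
    have hne2 : α + β ≠ α := fun h3 => hβ.1 (by
      have h4 : α + β = α + 0 := by rw [h3, add_zero]
      exact add_left_cancel h4)
    have hne3 : α + β ≠ β := fun h3 => hα (by
      have h4 : α + β = 0 + β := by rw [h3, zero_add]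
      exact add_right_cancel h4)
    have h5 : ({0, α, β, α + β} : Finset K) = Finset.univ := by
      apply Finset.eq_univ_of_card
      rw [hcard, Finset.card_insert_of_notMem, Finset.card_insert_of_notMem, Finset.card_insert_of_notMem,
        Finset.card_singleton]
      · simp only [Finset.mem_singleton]
        exact fun h7 => hne3 h7.symm
      · simp only [Finset.mem_insert, Finset.mem_singleton, not_or]
        exact ⟨fun h7 => hβ.2 h7.symm, fun h7 => hne2 h7.symm⟩
      · simp only [Finset.mem_insert, Finset.mem_singleton, not_or]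
        exact ⟨fun h7 => hα h7.symm, fun h7 => hβ.1 h7.symm, fun h7 => hne1 h7.symm⟩
    intro x
    have h6 : x ∈ ({0, α, β, α + β} : Finset K) := by rw [h5]; exact Finset.mem_univ _
    simpa using h6

theorem K4.fix (h : K4 K) {c : K} (hc : star c = c) : c = 0 ∨ c = 1 := by
  rw [h.st] at hc
  rcases eq_or_ne c 0 with h1 | h1
  · exact Or.inl h1
  · right
    have : c * c = c * 1 := by rw [hc, mul_one]
    exact mul_left_cancel₀ h1 this

theorem K4.nrm (h : K4 K) {x : K} (hx : x ≠ 0) : x * star x = 1 := by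
  rw [h.st, ← mul_assoc, h.cube x hx]

theorem K4.tr (h : K4 K) {x y : K} (hx : x ≠ 0) (hy : y ≠ 0) (hxy : y ≠ x) : x * star y + star x * y = 1 := by
  have hne : x + y ≠ 0 := fun h3 => hxy (by
    have h4 : x + y = x + x := by rw [h3, h.two]
    exact add_left_cancel h4)
  have h1 := h.cube (x + y) hne
  have h2 := h.cube x hx
  have h3 := h.cube y hy
  have t := h.two
  rw [h.st, h.st]
  have h4 : (x + y) * (x + y) * (x + y) = x * x * x + y * y * y + (x * (y * y) + x * x * y) +
      ((x * (y * y) + x * x * y) + (x * (y * y) + x * x * y)) := by ring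
  rw [h4, h2, h3, t, zero_add, t, add_zero] at h1
  exact h1

theorem K4.tr0 (h : K4 K) (x : K) : x * star x + star x * x = 0 := by
  rw [mul_comm (star x)]; exact h.two _

/-- `u_r` -/
def ur (r : K) : PG K := ⟨r, 0, 0, 0, by simp, by simp⟩

theorem conj_comp (g v : PG K) (hv : v.r = 0) : (g * v * g⁻¹).r = 0 ∧
    (g * v * g⁻¹).a = v.a + g.r * star v.b + star g.r * v.b + g.r * star g.r * v.c ∧
    (g * v * g⁻¹).b = v.b + g.r * v.c ∧ (g * v * g⁻¹).c = v.c := by
  refine ⟨?_, ?_, ?_, ?_⟩
  · simp [hv]
  · simp only [PG.mul_a, PG.mul_r, PG.mul_b, PG.mul_c, PG.inv_a, PG.inv_b, PG.inv_r, PG.inv_c, hv, star_add, star_mul',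
      star_neg, g.hc, v.hc, star_star, star_zero]
    ring
  · simp only [PG.mul_r, PG.mul_b, PG.mul_c, PG.inv_b, PG.inv_r, PG.inv_c, hv]
    ring
  · simp only [PG.mul_c, PG.inv_c]
    ring

theorem normal_PV : (⊤ : Subgroup (PG K)) ≤ Subgroup.normalizer ((PV K : Subgroup (PG K)) : Set (PG K)) := by
  intro g _
  rw [Subgroup.mem_normalizer_iff]
  intro x
  constructor
  · intro hx
    exact (conj_comp g x hx).1
  · intro hx
    have h1 := (conj_comp g⁻¹ (g * x * g⁻¹) hx).1
    have h2 : g⁻¹ * (g * x * g⁻¹) * g⁻¹⁻¹ = x := by group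
    rw [h2] at h1
    exact h1

/-- `V` is abelian of exponent 2 -/
theorem PV_comm (x y : PV K) : x * y = y * x := by
  have hx : (x : PG K).r = 0 := x.2
  have hy : (y : PG K).r = 0 := y.2
  apply Subtype.ext
  show (x : PG K) * y = y * x
  ext
  · simp [hx, hy]
  · simp only [PG.mul_a, hx, hy, star_zero]; ring
  · simp only [PG.mul_b, hx, hy]; ring
  · simp only [PG.mul_c]; ring

theorem PV_sq (h : K4 K) (x : PV K) : x * x = 1 := by
  have hx : (x : PG K).r = 0 := x.2
  have t := h.two
  apply Subtype.ext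
  show (x : PG K) * x = 1
  ext
  · simp [hx]
  · simp only [PG.mul_a, hx, star_zero, PG.one_a]
    rw [zero_mul, zero_mul, zero_mul, zero_mul, t]; simp
  · simp only [PG.mul_b, hx, PG.one_b]
    rw [zero_mul, t, add_zero]
  · simp only [PG.mul_c, PG.one_c]
    exact t _

/-- the generator of `V` -/
def ev : PV K := ⟨⟨0, 0, 0, 1, by simp, by simp⟩, rfl⟩

/-- elements of `V` -/
theorem PV_ext {x y : PV K} (ha : (x : PG K).a = (y : PG K).a) (hb : (x : PG K).b = (y : PG K).b)
    (hc : (x : PG K).c = (y : PG K).c) : x = y := by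
  have hx : (x : PG K).r = 0 := x.2
  have hy : (y : PG K).r = 0 := y.2
  apply Subtype.ext
  ext
  · rw [hx, hy]
  · exact ha
  · exact hb
  · exact hc

theorem PV_mul_a (x y : PV K) : ((x * y : PV K) : PG K).a = (x : PG K).a + (y : PG K).a := by
  have hx : (x : PG K).r = 0 := x.2
  show ((x : PG K) * y).a = _
  simp only [PG.mul_a, hx, star_zero]
  ring

theorem PV_mul_b (x y : PV K) : ((x * y : PV K) : PG K).b = (x : PG K).b + (y : PG K).b := by
  have hx : (x : PG K).r = 0 := x.2
  show ((x : PG K) * y).b = _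
  simp only [PG.mul_b, hx]
  ring

theorem PV_mul_c (x y : PV K) : ((x * y : PV K) : PG K).c = (x : PG K).c + (y : PG K).c := rfl

/-- bits -/
def kap (K : Type u) [Field K] (t : Bool) : K := if t then 1 else 0

theorem kap_xor (h : K4 K) (s t : Bool) : kap K (xor s t) = kap K s + kap K t := by
  cases s <;> cases t <;> simp [kap, h.two]

theorem kap_inj {s t : Bool} (h : kap K s = kap K t) : s = t := by
  cases s <;> cases t <;> simp_all [kap]

theorem exists_kap (h : K4 K) {c : K} (hc : star c = c) : ∃ t, c = kap K t := by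
  rcases h.fix hc with h1 | h1
  · exact ⟨false, by rw [h1]; rfl⟩
  · exact ⟨true, by rw [h1]; rfl⟩

section

variable {α β : K} {a b : MulAut (PV K)}

theorem pw_a (v : PV K) (t : Bool) : ((pw v t : PV K) : PG K).a = kap K t * (v : PG K).a := by
  cases t
  · simp [pw, kap]
  · simp [pw, kap]

theorem pw_b (v : PV K) (t : Bool) : ((pw v t : PV K) : PG K).b = kap K t * (v : PG K).b := by
  cases t
  · simp [pw, kap]
  · simp [pw, kap]

theorem pw_c (v : PV K) (t : Bool) : ((pw v t : PV K) : PG K).c = kap K t * (v : PG K).c := by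
  cases t
  · simp [pw, kap]
  · simp [pw, kap]

theorem bit_inj : ∀ x0 x1 x2 x3 y0 y1 y2 y3 : Bool, xor (xor x1 x2) x3 = xor (xor y1 y2) y3 →
    xor x1 x3 = xor y1 y3 → xor x2 x3 = xor y2 y3 →
    xor (xor x0 x1) (xor x2 x3) = xor (xor y0 y1) (xor y2 y3) → (x0, x1, x2, x3) = (y0, y1, y2, y3) := by
  decide +kernel

/-- **`V` is the regular module** -/
theorem reg_of (h : K4 K) (hα : α ≠ 0) (hβ : β ≠ 0) (hne : β ≠ α)
    (hall : ∀ x : K, x = 0 ∨ x = α ∨ x = β ∨ x = α + β) (ha : IsC (ur α) a) (hb : IsC (ur β) b) :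
    Reg a b (ev : PV K) := by
  have t := h.two
  have fa : ∀ v : PV K, ((a v : PV K) : PG K).a = (v : PG K).a + α * star (v : PG K).b + star α * (v : PG K).b +
      (v : PG K).c ∧ ((a v : PV K) : PG K).b = (v : PG K).b + α * (v : PG K).c ∧
      ((a v : PV K) : PG K).c = (v : PG K).c := by
    intro v
    rw [ha v]
    obtain ⟨-, h1, h2, h3⟩ := conj_comp (ur α) (v : PG K) v.2
    refine ⟨?_, h2, h3⟩
    rw [h1]
    show _ + α * _ + star α * _ + α * star α * _ = _
    rw [h.nrm hα, one_mul]
  have fb : ∀ v : PV K, ((b v : PV K) : PG K).a = (v : PG K).a + β * star (v : PG K).b + star β * (v : PG K).b +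
      (v : PG K).c ∧ ((b v : PV K) : PG K).b = (v : PG K).b + β * (v : PG K).c ∧
      ((b v : PV K) : PG K).c = (v : PG K).c := by
    intro v
    rw [hb v]
    obtain ⟨-, h1, h2, h3⟩ := conj_comp (ur β) (v : PG K) v.2
    refine ⟨?_, h2, h3⟩
    rw [h1]
    show _ + β * _ + star β * _ + β * star β * _ = _
    rw [h.nrm hβ, one_mul]
  have tr := h.tr hα hβ hne
  have e_a : ((ev : PV K) : PG K).a = 0 := rfl
  have e_b : ((ev : PV K) : PG K).b = 0 := rfl
  have e_c : ((ev : PV K) : PG K).c = 1 := rfl
  -- the four basis vectors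
  have ae_a : ((a ev : PV K) : PG K).a = 1 := by rw [(fa ev).1, e_a, e_b, e_c, star_zero]; ring
  have ae_b : ((a ev : PV K) : PG K).b = α := by rw [(fa ev).2.1, e_b, e_c]; ring
  have ae_c : ((a ev : PV K) : PG K).c = 1 := by rw [(fa ev).2.2, e_c]
  have be_a : ((b ev : PV K) : PG K).a = 1 := by rw [(fb ev).1, e_a, e_b, e_c, star_zero]; ring
  have be_b : ((b ev : PV K) : PG K).b = β := by rw [(fb ev).2.1, e_b, e_c]; ring
  have be_c : ((b ev : PV K) : PG K).c = 1 := by rw [(fb ev).2.2, e_c]
  have abe_a : ((a (b ev) : PV K) : PG K).a = 1 := by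
    rw [(fa _).1, be_a, be_b, be_c, add_assoc 1, tr]
    rw [t, zero_add]
  have abe_b : ((a (b ev) : PV K) : PG K).b = α + β := by rw [(fa _).2.1, be_b, be_c]; ring
  have abe_c : ((a (b ev) : PV K) : PG K).c = 1 := by rw [(fa _).2.2, be_c]
  have ca : ∀ x : W, ((cod a b ev x : PV K) : PG K).a = kap K (xor (xor x.2.1 x.2.2.1) x.2.2.2) := by
    intro x
    rw [cod, PV_mul_a, PV_mul_a, PV_mul_a, pw_a, pw_a, pw_a, pw_a, e_a, ae_a, be_a, abe_a, kap_xor h, kap_xor h]
    ring
  have cb : ∀ x : W, ((cod a b ev x : PV K) : PG K).b = kap K (xor x.2.1 x.2.2.2) * α + kap K (xor x.2.2.1 x.2.2.2) * β := by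
    intro x
    rw [cod, PV_mul_b, PV_mul_b, PV_mul_b, pw_b, pw_b, pw_b, pw_b, e_b, ae_b, be_b, abe_b, kap_xor h, kap_xor h]
    ring
  have cc : ∀ x : W, ((cod a b ev x : PV K) : PG K).c = kap K (xor (xor x.1 x.2.1) (xor x.2.2.1 x.2.2.2)) := by
    intro x
    rw [cod, PV_mul_c, PV_mul_c, PV_mul_c, pw_c, pw_c, pw_c, pw_c, e_c, ae_c, be_c, abe_c, kap_xor h, kap_xor h,
      kap_xor h]
    ring
  -- independence
  have indep : ∀ s s' k k' : Bool, kap K s * α + kap K k * β = kap K s' * α + kap K k' * β → s = s' ∧ k = k' := by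
    have h1 : α + β ≠ 0 := fun h3 => hne (by
      have h4 : α + β = α + α := by rw [h3, t]
      exact add_left_cancel h4)
    have h2 : α + β ≠ α := fun h3 => hβ (by
      have h4 : α + β = α + 0 := by rw [h3, add_zero]
      exact add_left_cancel h4)
    have h3 : α + β ≠ β := fun h3 => hα (by
      have h4 : α + β = 0 + β := by rw [h3, zero_add]
      exact add_right_cancel h4)
    intro s s' k k' hh
    have h4 : kap K (xor s s') * α + kap K (xor k k') * β = 0 := by
      rw [kap_xor h, kap_xor h]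
      have e1 : (kap K s + kap K s') * α + (kap K k + kap K k') * β =
          (kap K s * α + kap K k * β) + (kap K s' * α + kap K k' * β) := by ring
      rw [e1, hh, t]
    have h5 : xor s s' = false ∧ xor k k' = false := by
      generalize xor s s' = m at h4 ⊢
      generalize xor k k' = n at h4 ⊢
      cases m <;> cases n
      · exact ⟨rfl, rfl⟩
      · exfalso
        apply hβ
        simpa [kap] using h4
      · exfalso
        apply hα
        simpa [kap] using h4
      · exfalso
        apply h1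
        simpa [kap] using h4
    refine ⟨?_, ?_⟩
    · revert h5; cases s <;> cases s' <;> simp
    · revert h5; cases k <;> cases k' <;> simp
  refine ⟨PV_comm, PV_sq h, ?_, ?_, ?_, ?_, ?_⟩
  · ext v : 1
    rw [MulAut.mul_apply, MulAut.one_apply]
    apply PV_ext
    · rw [(fa _).1, (fa _).1, (fa _).2.1, (fa _).2.2, star_add, star_mul', (v : PG K).hc]
      have h1 := h.two
      have e1 : α * star α = 1 := h.nrm hα
      have e2 : star α * α = 1 := by rw [mul_comm]; exact e1
      calc (v : PG K).a + α * star (v : PG K).b + star α * (v : PG K).b + (v : PG K).c +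
            α * (star (v : PG K).b + star α * (v : PG K).c) + star α * ((v : PG K).b + α * (v : PG K).c) +
            (v : PG K).c
          = (v : PG K).a + (α * star (v : PG K).b + α * star (v : PG K).b) +
            (star α * (v : PG K).b + star α * (v : PG K).b) + ((v : PG K).c + (v : PG K).c) +
            (α * star α * (v : PG K).c + star α * α * (v : PG K).c) := by ring
        _ = (v : PG K).a := by rw [e1, e2, h1, h1, h1, h1]; ring
    · rw [(fa _).2.1, (fa _).2.1, (fa _).2.2]
      have h1 := h.two (α * (v : PG K).c)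
      linear_combination h1
    · rw [(fa _).2.2, (fa _).2.2]
  · ext v : 1
    rw [MulAut.mul_apply, MulAut.one_apply]
    apply PV_ext
    · rw [(fb _).1, (fb _).1, (fb _).2.1, (fb _).2.2, star_add, star_mul', (v : PG K).hc]
      have h1 := h.two
      have e1 : β * star β = 1 := h.nrm hβ
      have e2 : star β * β = 1 := by rw [mul_comm]; exact e1
      calc (v : PG K).a + β * star (v : PG K).b + star β * (v : PG K).b + (v : PG K).c +
            β * (star (v : PG K).b + star β * (v : PG K).c) + star β * ((v : PG K).b + β * (v : PG K).c) +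
            (v : PG K).c
          = (v : PG K).a + (β * star (v : PG K).b + β * star (v : PG K).b) +
            (star β * (v : PG K).b + star β * (v : PG K).b) + ((v : PG K).c + (v : PG K).c) +
            (β * star β * (v : PG K).c + star β * β * (v : PG K).c) := by ring
        _ = (v : PG K).a := by rw [e1, e2, h1, h1, h1, h1]; ring
    · rw [(fb _).2.1, (fb _).2.1, (fb _).2.2]
      have h1 := h.two (β * (v : PG K).c)
      linear_combination h1
    · rw [(fb _).2.2, (fb _).2.2]
  · ext v : 1
    rw [MulAut.mul_apply, MulAut.mul_apply]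
    apply PV_ext
    · rw [(fa _).1, (fb _).1, (fb _).2.1, (fb _).2.2, (fb _).1, (fa _).1, (fa _).2.1, (fa _).2.2, star_add, star_add,
        star_mul', star_mul', (v : PG K).hc]
      ring
    · rw [(fa _).2.1, (fb _).2.1, (fb _).2.2, (fb _).2.1, (fa _).2.1, (fa _).2.2]
      ring
    · rw [(fa _).2.2, (fb _).2.2, (fb _).2.2, (fa _).2.2]
  · intro v
    obtain ⟨p, hp⟩ := exists_kap h (v : PG K).ha
    obtain ⟨q, hq⟩ := exists_kap h (v : PG K).hc
    obtain ⟨s, k, hsk⟩ : ∃ s k : Bool, (v : PG K).b = kap K s * α + kap K k * β := by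
      rcases hall (v : PG K).b with h1 | h1 | h1 | h1
      · exact ⟨false, false, by rw [h1]; simp [kap]⟩
      · exact ⟨true, false, by rw [h1]; simp [kap]⟩
      · exact ⟨false, true, by rw [h1]; simp [kap]⟩
      · exact ⟨true, true, by rw [h1]; simp [kap]⟩
    refine ⟨(xor q p, xor p k, xor p s, xor (xor p s) k), PV_ext ?_ ?_ ?_⟩
    · rw [ca, hp]
      congr 1
      cases p <;> cases s <;> cases k <;> rfl
    · rw [cb, hsk]
      congr 3
      · cases p <;> cases s <;> cases k <;> rfl
      · cases p <;> cases s <;> cases k <;> rfl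
    · rw [cc, hq]
      congr 1
      cases p <;> cases s <;> cases k <;> cases q <;> rfl
  · intro x y hxy
    have k1 := kap_inj ((ca x).symm.trans ((congrArg (fun v : PV K => (v : PG K).a) hxy).trans (ca y)))
    have k2 := indep _ _ _ _ ((cb x).symm.trans ((congrArg (fun v : PV K => (v : PG K).b) hxy).trans (cb y)))
    have k3 := kap_inj ((cc x).symm.trans ((congrArg (fun v : PV K => (v : PG K).c) hxy).trans (cc y)))
    obtain ⟨x0, x1, x2, x3⟩ := x
    obtain ⟨y0, y1, y2, y3⟩ := y
    obtain ⟨k2, k4⟩ := k2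
    exact bit_inj x0 x1 x2 x3 y0 y1 y2 y3 k1 k2 k4 k3

end

end Cfsg.Agent.H834.P4
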